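/-
Two quadratic elements: every involution in the group they generate is central.

* `PairForm n m u v` : `u = a + b n + c m + d nm` and `v = a - b n - c m + d mn` with `a, b, c, d`
  commuting with `n` and `m`
* `involution_comm` : for a representation in a ring without 2-torsion of a group generated by
  two elements acting quadratically, an involution commutes with both generators
* `involution_comm_aut` : the same for an action on an abelian group of odd prime exponent
-/
import Cfsg.Agent.Lib.OddStable.Quadratic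

set_option autoImplicit false

namespace Cfsg.Agent.PStab

variable {E : Type*} [Ring E]

/-- The shape of an element and of its inverse in a group generated by `1 + n` and `1 + m`. -/
def PairForm (n m u v : E) : Prop :=
  ∃ a b c d : E, a ∈ Subring.centralizer ({n, m} : Set E) ∧ b ∈ Subring.centralizer ({n, m} : Set E) ∧
    c ∈ Subring.centralizer ({n, m} : Set E) ∧ d ∈ Subring.centralizer ({n, m} : Set E) ∧
    u = a + b * n + c * m + d * (n * m) ∧ v = a - b * n - c * m + d * (m * n)

theorem mem_pair_centralizer {n m a : E} :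
    a ∈ Subring.centralizer ({n, m} : Set E) ↔ n * a = a * n ∧ m * a = a * m := by
  simp [Subring.mem_centralizer_iff]

theorem anticomm_mem {n m : E} (hn : n * n = 0) (hm : m * m = 0) :
    n * m + m * n ∈ Subring.centralizer ({n, m} : Set E) := by
  refine mem_pair_centralizer.2 ⟨?_, ?_⟩
  · rw [mul_add, add_mul, ← mul_assoc, hn, zero_mul, zero_add, mul_assoc m n n, hn, mul_zero, add_zero,
      mul_assoc]
  · rw [mul_add, add_mul, ← mul_assoc m m n, hm, zero_mul, add_zero, mul_assoc n m m, hm, mul_zero,
      zero_add, mul_assoc]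

theorem pairForm_one (n m : E) : PairForm n m 1 1 :=
  ⟨1, 0, 0, 0, one_mem _, zero_mem _, zero_mem _, zero_mem _, by simp, by simp⟩

theorem pairForm_left {n m u v : E} (hn : n * n = 0) (h : PairForm n m u v) :
    PairForm n m ((1 + n) * u) (v * (1 - n)) := by
  obtain ⟨a, b, c, d, ha, hb, hc, hd, rfl, rfl⟩ := h
  have ca := (mem_pair_centralizer.1 ha).1
  have cb := (mem_pair_centralizer.1 hb).1
  have cc := (mem_pair_centralizer.1 hc).1
  have cd := (mem_pair_centralizer.1 hd).1
  refine ⟨a, a + b, c, c + d, ha, add_mem ha hb, hc, add_mem hc hd, ?_, ?_⟩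
  · have e : n * (a + b * n + c * m + d * (n * m)) = a * n + c * (n * m) := by
      rw [mul_add, mul_add, mul_add, ca, ← mul_assoc n b n, cb, mul_assoc b n n, hn, mul_zero,
        ← mul_assoc n c m, cc, mul_assoc c n m, ← mul_assoc n d (n * m), cd, mul_assoc d n (n * m),
        ← mul_assoc n n m, hn, zero_mul, mul_zero, add_zero, add_zero]
    rw [add_mul, one_mul, e]
    noncomm_ring
  · have e : (a - b * n - c * m + d * (m * n)) * n = a * n - c * (m * n) := by
      rw [add_mul, sub_mul, sub_mul, mul_assoc b n n, hn, mul_zero, sub_zero, mul_assoc c m n,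
        mul_assoc d (m * n) n, mul_assoc m n n, hn, mul_zero, mul_zero, add_zero]
    rw [mul_sub, mul_one, e]
    noncomm_ring

theorem pairForm_right {n m u v : E} (hn : n * n = 0) (hm : m * m = 0) (h : PairForm n m u v) :
    PairForm n m ((1 + m) * u) (v * (1 - m)) := by
  obtain ⟨a, b, c, d, ha, hb, hc, hd, rfl, rfl⟩ := h
  have he := anticomm_mem hn hm
  set e := n * m + m * n with hedef
  have ca := (mem_pair_centralizer.1 ha).2
  have cb := (mem_pair_centralizer.1 hb).2
  have cc := (mem_pair_centralizer.1 hc).2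
  have cd := (mem_pair_centralizer.1 hd).2
  have hmn : m * n = e - n * m := by rw [hedef]; abel
  have hmnm : m * n * m = e * m := by
    rw [hedef, add_mul, mul_assoc n m m, hm, mul_zero, zero_add]
  refine ⟨a + b * e, b, a + c + d * e, d - b, add_mem ha (mul_mem hb he), hb,
    add_mem (add_mem ha hc) (mul_mem hd he), sub_mem hd hb, ?_, ?_⟩
  · have e1 : m * (a + b * n + c * m + d * (n * m)) = a * m + b * (m * n) + d * (e * m) := by
      rw [mul_add, mul_add, mul_add, ca, ← mul_assoc m b n, cb, mul_assoc b m n, ← mul_assoc m c m, cc,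
        mul_assoc c m m, hm, mul_zero, add_zero, ← mul_assoc m d (n * m), cd, mul_assoc d m (n * m),
        ← mul_assoc m n m, hmnm]
    rw [add_mul, one_mul, e1, hmn]
    noncomm_ring
  · have e2 : (a - b * n - c * m + d * (m * n)) * m = a * m - b * (n * m) + d * (e * m) := by
      rw [add_mul, sub_mul, sub_mul, mul_assoc b n m, mul_assoc c m m, hm, mul_zero, sub_zero,
        mul_assoc d (m * n) m, hmnm]
    rw [mul_sub, mul_one, e2, hmn]
    noncomm_ring

theorem PairForm.sum_mem {n m u v : E} (hn : n * n = 0) (hm : m * m = 0) (h : PairForm n m u v) :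
    u + v ∈ Subring.centralizer ({n, m} : Set E) := by
  obtain ⟨a, b, c, d, ha, hb, hc, hd, rfl, rfl⟩ := h
  have : a + b * n + c * m + d * (n * m) + (a - b * n - c * m + d * (m * n))
      = a + a + d * (n * m + m * n) := by noncomm_ring
  rw [this]
  exact add_mem (add_mem ha ha) (mul_mem hd (anticomm_mem hn hm))

theorem involution_comm {Y : Type*} [Group Y] [Finite Y] (Φ : Y →* E) (h2 : ∀ u : E, u + u = 0 → u = 0)
    (a b : Y) (hgen : Subgroup.closure ({a, b} : Set Y) = ⊤)
    (ha : (Φ a - 1) * (Φ a - 1) = 0) (hb : (Φ b - 1) * (Φ b - 1) = 0) {t : Y} (ht : t⁻¹ = t) :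
    Φ a * Φ t = Φ t * Φ a ∧ Φ b * Φ t = Φ t * Φ b := by
  set n := Φ a - 1 with hn
  set m := Φ b - 1 with hm
  have key : ∀ g : Y, PairForm n m (Φ g) (Φ g⁻¹) := by
    intro g
    have hg : g ∈ (Subgroup.closure ({a, b} : Set Y)).toSubmonoid := by rw [hgen]; trivial
    rw [Subgroup.closure_toSubmonoid_of_finite] at hg
    induction hg using Submonoid.closure_induction_left with
    | one => simpa using pairForm_one n m
    | mul_left x hx g _ ih =>
      have inv_eq : ∀ y : Y, (Φ y - 1) * (Φ y - 1) = 0 → Φ y⁻¹ = 1 - (Φ y - 1) := by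
        intro y hy
        have h1 : (1 + (Φ y - 1)) * (1 - (Φ y - 1)) = 1 := by
          have : (1 + (Φ y - 1)) * (1 - (Φ y - 1)) = 1 - (Φ y - 1) * (Φ y - 1) := by noncomm_ring
          rw [this, hy, sub_zero]
        rw [add_sub_cancel] at h1
        calc Φ y⁻¹ = Φ y⁻¹ * (Φ y * (1 - (Φ y - 1))) := by rw [h1, mul_one]
          _ = 1 - (Φ y - 1) := by rw [← mul_assoc, ← map_mul, inv_mul_cancel, map_one, one_mul]
      rw [map_mul, mul_inv_rev, map_mul]
      rcases hx with rfl | rfl
      · rw [inv_eq x ha, show Φ x = 1 + n by rw [hn]; abel]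
        simpa [hn] using pairForm_left ha ih
      · rw [inv_eq x hb, show Φ x = 1 + m by rw [hm]; abel]
        simpa [hm] using pairForm_right ha hb ih
  have h := (key t).sum_mem ha hb
  rw [ht, mem_pair_centralizer] at h
  have cancel : ∀ k : E, k * (Φ t + Φ t) = (Φ t + Φ t) * k → k * Φ t = Φ t * k := fun k hk =>
    sub_eq_zero.1 (h2 _ (by rw [mul_add, add_mul] at hk; rw [sub_add_sub_comm, hk, sub_self]))
  have h1 := cancel n h.1
  have h1' := cancel m h.2
  constructor
  · rw [show Φ a = n + 1 by rw [hn]; abel, add_mul, mul_add, h1, one_mul, mul_one]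
  · rw [show Φ b = m + 1 by rw [hm]; abel, add_mul, mul_add, h1', one_mul, mul_one]

theorem involution_comm_aut {Y : Type*} [Group Y] [Finite Y] {p : ℕ} [Fact p.Prime] (hp : p ≠ 2)
    {W : Type*} [CommGroup W] (hW : ∀ w : W, w ^ p = 1) (φ : Y →* MulAut W) (a b : Y)
    (hgen : Subgroup.closure ({a, b} : Set Y) = ⊤)
    (ha : ∀ w, φ a (φ a w * w⁻¹) = φ a w * w⁻¹) (hb : ∀ w, φ b (φ b w * w⁻¹) = φ b w * w⁻¹)
    {t : Y} (ht : t⁻¹ = t) : φ a * φ t = φ t * φ a ∧ φ b * φ t = φ t * φ b := by
  let Φ : Y →* AddMonoid.End (Additive W) :=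
    { toFun := fun u => (φ u).toMonoidHom.toAdditive
      map_one' := AddMonoidHom.ext fun v => by rw [map_one]; rfl
      map_mul' := fun u w => AddMonoidHom.ext fun v => by rw [map_mul]; rfl }
  have happ : ∀ u v, Φ u v = Additive.ofMul (φ u (Additive.toMul v)) := fun u v => rfl
  have hsq : ∀ u, (∀ w, φ u (φ u w * w⁻¹) = φ u w * w⁻¹) → (Φ u - 1) * (Φ u - 1) = 0 := fun u hu => by
    refine AddMonoidHom.ext fun v => ?_
    show Φ u (Φ u v - v) - (Φ u v - v) = 0
    rw [sub_eq_zero]
    apply Additive.toMul.injective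
    rw [happ]
    simp only [toMul_sub, toMul_ofMul, happ, div_eq_mul_inv]
    exact hu _
  have h2 : ∀ u : AddMonoid.End (Additive W), u + u = 0 → u = 0 := fun u hu => AddMonoidHom.ext fun v => by
    have h : Additive.toMul (u v) * Additive.toMul (u v) = 1 := congrArg Additive.toMul (DFunLike.congr_fun hu v)
    have hcop : Nat.Coprime 2 p := ((Nat.coprime_primes Nat.prime_two Fact.out).2 (Ne.symm hp))
    have := (pow_gcd_eq_one (a := Additive.toMul (u v))).2 ⟨(show _ ^ 2 = 1 by rw [sq, h]), hW _⟩
    rw [hcop, pow_one] at this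
    exact Additive.toMul.injective this
  have h := involution_comm Φ h2 a b hgen (hsq a ha) (hsq b hb) ht
  constructor <;> refine MulEquiv.ext fun w => ?_
  · exact congrArg Additive.toMul (DFunLike.congr_fun h.1 (Additive.ofMul w))
  · exact congrArg Additive.toMul (DFunLike.congr_fun h.2 (Additive.ofMul w))

end Cfsg.Agent.PStab
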