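/-
An irreducible piece of a p-subgroup on which two conjugate elements act quadratically modulo a part
centralised by the p'-elements.

* `dl l q` : `q⁻¹ (l q l⁻¹)`
* `Piece` : the hypotheses
* `Piece.exists_inverting` : a p'-element inverting `Q / R`, whose square centralises `Q`
* `Piece.iso` : `[Q, x]` is commutative
* `Piece.exists_lift` : elements commuting with the inverting one on `Q`
-/
import Cfsg.Agent.Lib.PStab.Pair
import Cfsg.Agent.Lib.PGroup.Basic
import Cfsg.Agent.Lib.Coprime.Basic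

set_option autoImplicit false

namespace Cfsg.Agent.PStab

open scoped commutatorElement

variable {G : Type*} [Group G] {p : ℕ}

/-- `q⁻¹ (l q l⁻¹)`. -/
def dl (l q : G) : G := q⁻¹ * (l * q * l⁻¹)

theorem conj_eq_mul_dl (l q : G) : l * q * l⁻¹ = q * dl l q := by simp [dl]

theorem dl_one (l : G) : dl l 1 = 1 := by simp [dl]

theorem dl_mul (l a b : G) : dl l (a * b) = b⁻¹ * dl l a * b * dl l b := by simp [dl, mul_assoc]

/-- A power of every element has order prime to `p`. -/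
theorem exists_pow_coprime [Finite G] [hp : Fact p.Prime] (l : G) :
    ∃ a : ℕ, (orderOf (l ^ p ^ a)).Coprime p := by
  refine ⟨(orderOf l).factorization p, ?_⟩
  rw [orderOf_pow' _ (pow_ne_zero _ hp.out.ne_zero),
    Nat.gcd_eq_right (Nat.ordProj_dvd (orderOf l) p)]
  exact Nat.Coprime.symm (Nat.coprime_ordCompl hp.out (orderOf_pos l).ne')

/-- Some odd power of every element has order a power of two. -/
theorem exists_odd_pow_two [Finite G] (l : G) :
    ∃ m : ℕ, Odd m ∧ ∃ s : ℕ, (l ^ m) ^ 2 ^ s = 1 := by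
  refine ⟨orderOf l / 2 ^ (orderOf l).factorization 2, ?_, (orderOf l).factorization 2, ?_⟩
  · exact Nat.not_even_iff_odd.1 fun h =>
      Nat.not_dvd_ordCompl Nat.prime_two (orderOf_pos l).ne' (even_iff_two_dvd.1 h)
  · rw [← pow_mul, Nat.div_mul_cancel (Nat.ordProj_dvd (orderOf l) 2), pow_orderOf_eq_one]

/-- A `p'`-element stabilising `q` modulo a `p`-element it commutes with fixes `q`. -/
theorem eq_one_of_stab {k q d : G} (h : k * q * k⁻¹ = q * d) (hkd : Commute k d)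
    (hk : (orderOf k).Coprime p) {j : ℕ} (hd : d ^ p ^ j = 1) : d = 1 := by
  have hrec : ∀ i : ℕ, k ^ i * q * (k ^ i)⁻¹ = q * d ^ i := by
    intro i
    induction i with
    | zero => simp
    | succ i ih =>
      calc k ^ (i + 1) * q * (k ^ (i + 1))⁻¹ = k * (k ^ i * q * (k ^ i)⁻¹) * k⁻¹ := by
            rw [pow_succ']; group
        _ = (k * q * k⁻¹) * (k * d ^ i * k⁻¹) := by rw [ih]; group
        _ = q * d * d ^ i := by rw [h, (hkd.pow_right i).eq, mul_inv_cancel_right]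
        _ = q * d ^ (i + 1) := by rw [pow_succ', mul_assoc]
  have h1 := hrec (orderOf k)
  rw [pow_orderOf_eq_one, one_mul, inv_one, mul_one, eq_comm, mul_eq_left] at h1
  have h2 := (pow_gcd_eq_one (a := d)).2 ⟨h1, hd⟩
  rwa [(hk.pow_right j : Nat.gcd _ _ = 1), pow_one] at h2

/-- In a finite `p`-group generated by an element and a conjugate, the element generates. -/
theorem zpowers_eq_top_of_conj {X : Type*} [Group X] [Finite X] [Fact p.Prime] (hX : IsPGroup p X)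
    (x g : X) (hgen : Subgroup.closure ({x, g * x * g⁻¹} : Set X) = ⊤) : Subgroup.zpowers x = ⊤ := by
  refine (eq_top_or_exists_le_coatom (Subgroup.zpowers x)).resolve_right ?_
  rintro ⟨M, hM, hle⟩
  have := PGroup.isCoatom_normal hX hM
  refine hM.1 (eq_top_iff.2 (hgen.ge.trans ((Subgroup.closure_le _).2 ?_)))
  rintro z (rfl | rfl)
  · exact hle (Subgroup.mem_zpowers z)
  · exact this.conj_mem _ (hle (Subgroup.mem_zpowers x)) g

/-- Elements of a `p`-group, `p` odd, are squares. -/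
theorem exists_sq {R : Subgroup G} [Fact p.Prime] (hp : p ≠ 2) (hR : IsPGroup p R) {r : G} (hr : r ∈ R) :
    ∃ s ∈ R, s * s = r := by
  obtain ⟨j, hj⟩ := hR ⟨r, hr⟩
  have hj' : r ^ p ^ j = 1 := congrArg Subtype.val hj
  obtain ⟨h, hh⟩ : Odd (p ^ j) := ((Fact.out : p.Prime).odd_of_ne_two hp).pow
  refine ⟨r ^ (h + 1), R.pow_mem hr _, ?_⟩
  rw [← pow_add, show h + 1 + (h + 1) = p ^ j + 1 by omega, pow_succ, hj', one_mul]

/-- A `p`-group of automorphisms normalised by enough automorphisms to act irreducibly is trivial. -/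
theorem eq_bot_of_irreducible {V : Type*} [Group V] [Finite V] [Nontrivial V] [Fact p.Prime]
    (hV : IsPGroup p V) {X : Subgroup (MulAut V)} (hX : IsPGroup p X) (f₁ f₂ : MulAut V)
    (h₁ : f₁ ∈ Subgroup.normalizer (X : Set (MulAut V))) (h₂ : f₂ ∈ Subgroup.normalizer (X : Set (MulAut V)))
    (hirr : ∀ U : Subgroup V, (∀ v ∈ U, f₁ v ∈ U) → (∀ v ∈ U, f₂ v ∈ U) → U = ⊥ ∨ U = ⊤) : X = ⊥ := by
  let F : Subgroup V :=
    { carrier := {v | ∀ f ∈ X, f v = v}
      one_mem' := fun f _ => map_one f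
      mul_mem' := fun {u w} hu hw f hf => by rw [map_mul, hu f hf, hw f hf]
      inv_mem' := fun {u} hu f hf => by rw [map_inv, hu f hf] }
  have hinv : ∀ g ∈ Subgroup.normalizer (X : Set (MulAut V)), ∀ v ∈ F, g v ∈ F := fun g hg v hv f hf => by
    have h := congrArg g (hv _ ((Subgroup.mem_normalizer_iff''.1 hg f).1 hf))
    rw [MulAut.mul_apply, MulAut.mul_apply, MulAut.apply_inv_self] at h
    exact h
  rcases hirr F (hinv f₁ h₁) (hinv f₂ h₂) with h | h
  · obtain ⟨n, hn, hcard⟩ := (hV.nontrivial_iff_card).1 inferInstance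
    obtain ⟨v, hv, hne⟩ := hX.exists_fixed_point_of_prime_dvd_card_of_fixed_point (α := V)
      (hcard ▸ dvd_pow_self p hn.ne') (a := 1) (fun f => map_one (f : MulAut V))
    refine absurd ((Subgroup.eq_bot_iff_forall _).1 h v fun f hf => hv ⟨f, hf⟩) (Ne.symm hne)
  · exact (Subgroup.eq_bot_iff_forall _).2 fun f hf => MulEquiv.ext fun v =>
      (h.ge (Subgroup.mem_top v) : v ∈ F) f hf

/-- The elements of `L` of order prime to `p`. -/
def pPrimeElts (p : ℕ) (L : Subgroup G) : Set G := {k | k ∈ L ∧ (orderOf k).Coprime p}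

theorem pow_gcd_two {A : Type*} [Monoid A] [hp' : Fact p.Prime] (hp : p ≠ 2) {a : A} {j : ℕ}
    (h : a ^ 2 = 1) (hj : a ^ p ^ j = 1) : a = 1 := by
  have h' := (pow_gcd_eq_one (a := a)).2 ⟨h, hj⟩
  rwa [(((Nat.coprime_primes Nat.prime_two hp'.out).2 (Ne.symm hp)).pow_right j : Nat.gcd _ _ = 1),
    pow_one] at h'

/-- A bilinear pairing applied to second iterates. -/
theorem bimul_sq_identity {A B : Type*} [Mul A] [CommMonoid B] (w : A → A → B)
    (h1 : ∀ a b c, w (a * b) c = w a c * w b c) (h2 : ∀ a b c, w a (b * c) = w a b * w a c)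
    (a d e b d' e' : A) (he : ∀ c, w e c = 1) (he' : ∀ c, w c e' = 1) :
    w (a * d * (d * e)) (b * d' * (d' * e')) * w a b = w (a * d) (b * d') ^ 2 * w d d' ^ 2 := by
  simp only [h1, h2, he, he', mul_one, one_mul, sq]
  ac_rfl

/-- `L = ⟨x, y⟩` acts on `Q` with irreducible top `Q / R`; the p'-elements centralise `R`. -/
structure Piece (p : ℕ) (L Q R : Subgroup G) (x y : G) : Prop where
  isPGroup : IsPGroup p Q
  le : R ≤ Q
  not_central : ¬ Q ≤ Subgroup.centralizer (pPrimeElts p L)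
  conj_mem : ∀ l ∈ L, ∀ q ∈ Q, l * q * l⁻¹ ∈ Q
  conj_mem' : ∀ l ∈ L, ∀ r ∈ R, l * r * l⁻¹ ∈ R
  prime_comm : ∀ k ∈ pPrimeElts p L, ∀ r ∈ R, Commute k r
  com_mem : ∀ a ∈ Q, ∀ b ∈ Q, ⁅a, b⁆ ∈ R
  central : ∀ r ∈ R, ∀ q ∈ Q, r * q = q * r
  pow_mem : ∀ q ∈ Q, q ^ p ∈ R
  x_mem : x ∈ L
  y_conj : ∃ g ∈ L, y = g * x * g⁻¹
  gen : L ≤ Subgroup.closure ({x, y} : Set G)
  irr : ∀ U : Subgroup G, R ≤ U → U ≤ Q → (∀ u ∈ U, x * u * x⁻¹ ∈ U) → (∀ u ∈ U, y * u * y⁻¹ ∈ U) →
    U = R ∨ U = Q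
  quad : ∀ q ∈ Q, dl x (dl x q) ∈ R

namespace Piece

variable {L Q R : Subgroup G} {x y : G} (h : Piece p L Q R x y)
include h

theorem y_mem : y ∈ L := by
  obtain ⟨g, hg, rfl⟩ := h.y_conj
  exact L.mul_mem (L.mul_mem hg h.x_mem) (L.inv_mem hg)

theorem dl_mem {l q : G} (hl : l ∈ L) (hq : q ∈ Q) : dl l q ∈ Q :=
  Q.mul_mem (Q.inv_mem hq) (h.conj_mem l hl q hq)

theorem dl_mem' {l r : G} (hl : l ∈ L) (hr : r ∈ R) : dl l r ∈ R :=
  R.mul_mem (R.inv_mem hr) (h.conj_mem' l hl r hr)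

theorem pow_eq_one {q : G} (hq : q ∈ Q) : ∃ j : ℕ, q ^ p ^ j = 1 := by
  obtain ⟨j, hj⟩ := h.isPGroup ⟨q, hq⟩
  exact ⟨j, congrArg Subtype.val hj⟩

theorem stab {k q : G} (hk : k ∈ pPrimeElts p L) (hq : q ∈ Q) (hd : dl k q ∈ R) : k * q = q * k := by
  obtain ⟨j, hj⟩ := h.pow_eq_one (h.le hd)
  have h1 := eq_one_of_stab (conj_eq_mul_dl k q) (h.prime_comm k hk _ hd) hk.2 hj
  have h2 := conj_eq_mul_dl k q
  rw [h1, mul_one, mul_inv_eq_iff_eq_mul] at h2
  exact h2

theorem quad_y {q : G} (hq : q ∈ Q) : dl y (dl y q) ∈ R := by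
  obtain ⟨g, hg, rfl⟩ := h.y_conj
  have h' := h.conj_mem' g hg _ (h.quad (g⁻¹ * q * g⁻¹⁻¹) (h.conj_mem _ (L.inv_mem hg) q hq))
  convert h' using 1
  simp [dl, mul_assoc]

theorem com_one_left {r q : G} (hr : r ∈ R) (hq : q ∈ Q) : ⁅r, q⁆ = 1 :=
  commutatorElement_eq_one_iff_commute.2 (h.central r hr q hq)

theorem com_one_right {r q : G} (hr : r ∈ R) (hq : q ∈ Q) : ⁅q, r⁆ = 1 :=
  commutatorElement_eq_one_iff_commute.2 (h.central r hr q hq).symm

theorem com_mul_left {a b c : G} (ha : a ∈ Q) (hb : b ∈ Q) (hc : c ∈ Q) :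
    ⁅a * b, c⁆ = ⁅a, c⁆ * ⁅b, c⁆ := by
  have h' := h.central _ (h.com_mem b hb c hc)
  calc ⁅a * b, c⁆ = a * ⁅b, c⁆ * a⁻¹ * ⁅a, c⁆ := by simp [commutatorElement_def, mul_assoc]
    _ = ⁅b, c⁆ * ⁅a, c⁆ := by rw [← h' a ha, mul_inv_cancel_right]
    _ = ⁅a, c⁆ * ⁅b, c⁆ := h' _ (h.le (h.com_mem a ha c hc))

theorem com_mul_right {a b c : G} (ha : a ∈ Q) (hb : b ∈ Q) (hc : c ∈ Q) :
    ⁅a, b * c⁆ = ⁅a, b⁆ * ⁅a, c⁆ := by
  have h' := h.central _ (h.com_mem a ha c hc)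
  calc ⁅a, b * c⁆ = ⁅a, b⁆ * (b * ⁅a, c⁆ * b⁻¹) := by simp [commutatorElement_def, mul_assoc]
    _ = ⁅a, b⁆ * ⁅a, c⁆ := by rw [← h' b hb, mul_inv_cancel_right]

theorem exists_not_mem [Finite G] : ∃ q ∈ Q, dl x q ∉ R := by
  by_contra hno
  push Not at hno
  have key : ∀ l ∈ (Subgroup.closure ({x, y} : Set G)).toSubmonoid, l ∈ L ∧ ∀ q ∈ Q, dl l q ∈ R := by
    rw [Subgroup.closure_toSubmonoid_of_finite]
    intro l hl
    induction hl using Submonoid.closure_induction with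
    | mem z hz =>
      rcases hz with rfl | rfl
      · exact ⟨h.x_mem, hno⟩
      · refine ⟨h.y_mem, fun q hq => ?_⟩
        obtain ⟨g, hg, e⟩ := h.y_conj
        have h' := h.conj_mem' g hg _ (hno (g⁻¹ * q * g⁻¹⁻¹) (h.conj_mem _ (L.inv_mem hg) q hq))
        rw [e]
        convert h' using 1
        simp [dl, mul_assoc]
    | one => exact ⟨L.one_mem, fun q _ => by simp [dl]⟩
    | mul a b _ _ iha ihb =>
      refine ⟨L.mul_mem iha.1 ihb.1, fun q hq => ?_⟩
      have e : dl (a * b) q = dl b q * dl a (b * q * b⁻¹) := by simp [dl, mul_assoc]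
      rw [e]
      exact R.mul_mem (ihb.2 q hq) (iha.2 _ (h.conj_mem b ihb.1 q hq))
  exact h.not_central fun q hq => Subgroup.mem_centralizer_iff.2 fun k hk =>
    h.stab hk hq ((key k (h.gen hk.1)).2 q hq)

theorem normal : (R.subgroupOf Q).Normal := ⟨fun r hr q => by
  rw [Subgroup.mem_subgroupOf] at hr ⊢
  rw [Subgroup.coe_mul, Subgroup.coe_mul, Subgroup.coe_inv, ← h.central _ hr _ q.2, mul_inv_cancel_right]
  exact hr⟩

theorem map_eq [Finite G] (l : L) (hLQ : L ≤ Subgroup.normalizer (Q : Set G)) :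
    (R.subgroupOf Q).map (Q.normalizerMonoidHom (Subgroup.inclusion hLQ l)).toMonoidHom = R.subgroupOf Q := by
  refine Subgroup.eq_of_le_of_card_ge ?_ (by
    rw [Subgroup.card_map_of_injective (f := (Q.normalizerMonoidHom (Subgroup.inclusion hLQ l)).toMonoidHom)
      (MulEquiv.injective _)])
  rintro _ ⟨q, hq, rfl⟩
  exact h.conj_mem' _ l.2 _ hq

theorem le_normalizer [Finite G] : L ≤ Subgroup.normalizer (Q : Set G) := fun l hl =>
  Coprime.mem_normalizer_of_forall (h.conj_mem l hl)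

theorem le_normalizer' [Finite G] : L ≤ Subgroup.normalizer (R : Set G) := fun l hl =>
  Coprime.mem_normalizer_of_forall (h.conj_mem' l hl)

/-- The action on `Q`. -/
def actQ [Finite G] : ↥L →* MulAut ↥Q :=
  Q.normalizerMonoidHom.comp (Subgroup.inclusion h.le_normalizer)

theorem actQ_apply [Finite G] (l : L) (q : Q) : ((h.actQ l q : Q) : G) = l * q * (l : G)⁻¹ := rfl

/-- The action on `Q / R`. -/
noncomputable def act [Finite G] [(R.subgroupOf Q).Normal] : ↥L →* MulAut (↥Q ⧸ R.subgroupOf Q) where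
  toFun l := QuotientGroup.congr _ _ (h.actQ l) (h.map_eq l h.le_normalizer)
  map_one' := MulEquiv.ext fun v => by
    induction v using QuotientGroup.induction_on with
    | H q =>
    show ((h.actQ 1 q : Q) : ↥Q ⧸ R.subgroupOf Q) = _
    rw [map_one]; rfl
  map_mul' l l' := MulEquiv.ext fun v => by
    induction v using QuotientGroup.induction_on with
    | H q =>
    show ((h.actQ (l * l') q : Q) : ↥Q ⧸ R.subgroupOf Q) = _
    rw [map_mul]; rfl

theorem act_apply [Finite G] [(R.subgroupOf Q).Normal] (l : L) (q : Q) :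
    h.act l (q : ↥Q ⧸ R.subgroupOf Q) = ((h.actQ l q : Q) : ↥Q ⧸ R.subgroupOf Q) := rfl

theorem act_fix [Finite G] [(R.subgroupOf Q).Normal] (l : L) (q : Q) :
    h.act l (q : ↥Q ⧸ R.subgroupOf Q) = q ↔ dl (l : G) q ∈ R := by
  rw [h.act_apply, eq_comm, QuotientGroup.eq, Subgroup.mem_subgroupOf]; rfl

theorem nontrivial_quot [Finite G] [(R.subgroupOf Q).Normal] : Nontrivial (↥Q ⧸ R.subgroupOf Q) := by
  obtain ⟨q, hq, hqR⟩ := h.exists_not_mem
  refine nontrivial_of_ne ((⟨dl x q, h.dl_mem h.x_mem hq⟩ : Q) : ↥Q ⧸ R.subgroupOf Q) 1 fun e => hqR ?_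
  rwa [QuotientGroup.eq_one_iff, Subgroup.mem_subgroupOf] at e

theorem irr_quot [Finite G] [(R.subgroupOf Q).Normal] (U : Subgroup (↥Q ⧸ R.subgroupOf Q))
    (h1 : ∀ v ∈ U, h.act ⟨x, h.x_mem⟩ v ∈ U) (h2 : ∀ v ∈ U, h.act ⟨y, h.y_mem⟩ v ∈ U) : U = ⊥ ∨ U = ⊤ := by
  rcases h.irr ((U.comap (QuotientGroup.mk' _)).map Q.subtype)
    (fun r hr => ⟨⟨r, h.le hr⟩, by
      show ((⟨r, h.le hr⟩ : Q) : ↥Q ⧸ R.subgroupOf Q) ∈ U
      rw [(QuotientGroup.eq_one_iff (⟨r, h.le hr⟩ : Q)).2 hr]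
      exact U.one_mem, rfl⟩)
    (Subgroup.map_subtype_le _)
    (by rintro _ ⟨q, hq, rfl⟩; exact ⟨⟨_, h.conj_mem _ h.x_mem _ q.2⟩, h1 _ hq, rfl⟩)
    (by rintro _ ⟨q, hq, rfl⟩; exact ⟨⟨_, h.conj_mem _ h.y_mem _ q.2⟩, h2 _ hq, rfl⟩) with he | he
  · refine Or.inl ((Subgroup.eq_bot_iff_forall _).2 fun v hv => ?_)
    induction v using QuotientGroup.induction_on with
    | H q => exact (QuotientGroup.eq_one_iff q).2 (he.le ⟨q, hv, rfl⟩)
  · refine Or.inr (eq_top_iff.2 fun v _ => ?_)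
    induction v using QuotientGroup.induction_on with
    | H q =>
    obtain ⟨q', hq', e⟩ := he.ge q.2
    rwa [Subtype.ext e] at hq'

/-- A `p'`-element inverting `Q / R`; its square centralises `Q`. -/
theorem exists_inverting [Finite G] [hp' : Fact p.Prime] (hp : p ≠ 2) :
    ∃ t ∈ pPrimeElts p L, (∀ q ∈ Q, q * (t * q * t⁻¹) ∈ R) ∧ ∀ q ∈ Q, t * (t * q * t⁻¹) * t⁻¹ = q := by
  classical
  haveI := h.normal
  haveI := h.nontrivial_quot
  have hVcomm : ∀ a b : ↥Q ⧸ R.subgroupOf Q, a * b = b * a := by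
    intro a b
    induction a using QuotientGroup.induction_on with
    | H a =>
    induction b using QuotientGroup.induction_on with
    | H b =>
    rw [← QuotientGroup.mk_mul, ← QuotientGroup.mk_mul, QuotientGroup.eq, Subgroup.mem_subgroupOf]
    have h' := h.com_mem _ (Q.inv_mem b.2) _ (Q.inv_mem a.2)
    simpa [commutatorElement_def, mul_assoc] using h'
  letI : CommGroup (↥Q ⧸ R.subgroupOf Q) :=
    { (inferInstance : Group (↥Q ⧸ R.subgroupOf Q)) with mul_comm := hVcomm }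
  have hVexp : ∀ v : ↥Q ⧸ R.subgroupOf Q, v ^ p = 1 := by
    intro v
    induction v using QuotientGroup.induction_on with
    | H q =>
    rw [← QuotientGroup.mk_pow, QuotientGroup.eq_one_iff, Subgroup.mem_subgroupOf]
    exact h.pow_mem _ q.2
  have hVp : IsPGroup p (↥Q ⧸ R.subgroupOf Q) := h.isPGroup.to_quotient _
  have hquad : ∀ l : L, (∀ q ∈ Q, dl (l : G) (dl (l : G) q) ∈ R) →
      ∀ w, h.act l (h.act l w * w⁻¹) = h.act l w * w⁻¹ := by
    intro l hl w
    induction w using QuotientGroup.induction_on with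
    | H q =>
    have e : h.act l (q : ↥Q ⧸ R.subgroupOf Q) * (q : ↥Q ⧸ R.subgroupOf Q)⁻¹ =
        ((⟨dl (l : G) q, h.dl_mem l.2 q.2⟩ : Q) : ↥Q ⧸ R.subgroupOf Q) := by
      rw [hVcomm, h.act_apply, ← QuotientGroup.mk_inv, ← QuotientGroup.mk_mul]
      rfl
    rw [e, h.act_fix]
    exact hl _ q.2
  set xL : L := ⟨x, h.x_mem⟩
  set yL : L := ⟨y, h.y_mem⟩
  have hgenL : Subgroup.closure ({xL, yL} : Set L) = ⊤ := by
    rw [eq_top_iff, ← Subgroup.map_le_map_iff_of_injective L.subtype_injective, MonoidHom.map_closure,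
      Set.image_pair, ← MonoidHom.range_eq_map, Subgroup.range_subtype]
    exact h.gen
  let aY : h.act.range := h.act.rangeRestrict xL
  let bY : h.act.range := h.act.rangeRestrict yL
  have hgenY : Subgroup.closure ({aY, bY} : Set h.act.range) = ⊤ := by
    have h' := congrArg (Subgroup.map h.act.rangeRestrict) hgenL
    rwa [MonoidHom.map_closure, Set.image_pair,
      Subgroup.map_top_of_surjective _ h.act.rangeRestrict_surjective] at h'
  have heven : ¬ Odd (Nat.card h.act.range) := by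
    intro hodd
    have hYp : IsPGroup p h.act.range := fun z => by
      obtain ⟨a, ha⟩ := exists_pow_coprime (p := p) z
      exact ⟨a, Subtype.ext (OddStable.aut_eq_one_of_pair hp hodd hVexp h.act.range.subtype aY bY hgenY
        (hquad xL h.quad) (hquad yL fun q hq => h.quad_y hq) ha)⟩
    have hbot := eq_bot_of_irreducible hVp hYp (h.act xL) (h.act yL) (Subgroup.le_normalizer ⟨xL, rfl⟩)
      (Subgroup.le_normalizer ⟨yL, rfl⟩) h.irr_quot
    obtain ⟨q, hq, hqR⟩ := h.exists_not_mem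
    exact hqR ((h.act_fix xL ⟨q, hq⟩).1 (by
      rw [(Subgroup.eq_bot_iff_forall _).1 hbot _ ⟨xL, rfl⟩]; rfl))
  obtain ⟨τ, hτ⟩ := exists_prime_orderOf_dvd_card' (G := h.act.range) 2
    (even_iff_two_dvd.1 (Nat.not_odd_iff_even.1 heven))
  obtain ⟨l₀, hl₀⟩ := τ.2
  obtain ⟨m, ⟨m', hm⟩, s, hs⟩ := exists_odd_pow_two l₀
  set tL : L := l₀ ^ m
  have hτ2 : τ * τ = 1 := by rw [← sq, ← hτ]; exact pow_orderOf_eq_one τ
  have hφt : h.act tL = (τ : MulAut (↥Q ⧸ R.subgroupOf Q)) := by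
    rw [map_pow, hl₀, hm, pow_succ, pow_mul, sq, ← Subgroup.coe_mul, hτ2, OneMemClass.coe_one, one_pow, one_mul]
  have htK : (tL : G) ∈ pPrimeElts p L := by
    refine ⟨tL.2, Nat.Coprime.coprime_dvd_left (orderOf_dvd_of_pow_eq_one (x := (tL : G)) ?_)
      (Nat.Coprime.pow_left s ((Nat.coprime_primes Nat.prime_two hp'.out).2 (Ne.symm hp)))⟩
    simpa using congrArg Subtype.val hs
  obtain ⟨hcx, hcy⟩ := involution_comm_aut hp hVexp h.act.range.subtype aY bY hgenY (hquad xL h.quad)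
    (hquad yL fun q hq => h.quad_y hq) (inv_eq_of_mul_eq_one_left hτ2)
  have hcx' : h.act xL * h.act tL = h.act tL * h.act xL := by rw [hφt]; exact hcx
  have hcy' : h.act yL * h.act tL = h.act tL * h.act yL := by rw [hφt]; exact hcy
  have hτsq : ∀ v, h.act tL (h.act tL v) = v := fun v => by
    rw [hφt, ← MulAut.mul_apply, ← Subgroup.coe_mul, hτ2]; rfl
  let F : Subgroup (↥Q ⧸ R.subgroupOf Q) :=
    { carrier := {v | h.act tL v = v}
      one_mem' := map_one _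
      mul_mem' := fun {u w} (hu : h.act tL u = u) (hw : h.act tL w = w) =>
        show h.act tL _ = _ by rw [map_mul, hu, hw]
      inv_mem' := fun {u} (hu : h.act tL u = u) => show h.act tL _ = _ by rw [map_inv, hu] }
  have hinv : ∀ v, h.act tL v = v⁻¹ := by
    intro v
    rcases h.irr_quot F
      (fun w (hw : h.act tL w = w) => show h.act tL _ = _ by
        rw [← MulAut.mul_apply, ← hcx', MulAut.mul_apply, hw])
      (fun w (hw : h.act tL w = w) => show h.act tL _ = _ by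
        rw [← MulAut.mul_apply, ← hcy', MulAut.mul_apply, hw]) with he | he
    · have h1 : v * h.act tL v ∈ F := show h.act tL _ = _ by rw [map_mul, hτsq, hVcomm]
      rw [he, Subgroup.mem_bot] at h1
      exact (inv_eq_of_mul_eq_one_right h1).symm
    · exfalso
      have h1 : h.act tL = 1 := MulEquiv.ext fun w => (he.ge (Subgroup.mem_top w) : w ∈ F)
      rw [hφt] at h1
      rw [Subtype.ext h1 (a2 := (1 : h.act.range)), orderOf_one] at hτ
      exact absurd hτ (by norm_num)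
  refine ⟨tL, htK, fun q hq => ?_, fun q hq => ?_⟩
  · have h' := hinv ((⟨q, hq⟩ : Q) : ↥Q ⧸ R.subgroupOf Q)
    rw [h.act_apply, eq_inv_iff_mul_eq_one, hVcomm, ← QuotientGroup.mk_mul, QuotientGroup.eq_one_iff,
      Subgroup.mem_subgroupOf] at h'
    exact h'
  · have ht2 : (tL : G) * tL ∈ pPrimeElts p L :=
      ⟨L.mul_mem tL.2 tL.2, by rw [← sq]; exact htK.2.coprime_dvd_left (orderOf_pow_dvd 2)⟩
    have hd : dl ((tL : G) * tL) q ∈ R :=
      (h.act_fix (tL * tL) ⟨q, hq⟩).1 (by rw [map_mul, MulAut.mul_apply, hτsq])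
    have h' := h.stab ht2 hq hd
    calc (tL : G) * (tL * q * (tL : G)⁻¹) * (tL : G)⁻¹ = ((tL : G) * tL * q) * ((tL : G) * tL)⁻¹ := by group
      _ = q := by rw [h', mul_inv_cancel_right]

/-- `x` and `y` act alike on `R`. -/
theorem conj_eq_conj [Finite G] [hp' : Fact p.Prime] {r : G} (hr : r ∈ R) : y * r * y⁻¹ = x * r * x⁻¹ := by
  obtain ⟨g, hg, e⟩ := h.y_conj
  let χ : ↥L →* MulAut ↥R := R.normalizerMonoidHom.comp (Subgroup.inclusion h.le_normalizer')
  set xL : L := ⟨x, h.x_mem⟩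
  set yL : L := ⟨y, h.y_mem⟩
  set gL : L := ⟨g, hg⟩
  have hyL : yL = gL * xL * gL⁻¹ := Subtype.ext e
  have hχp : IsPGroup p χ.range := fun z => by
    obtain ⟨l, rfl⟩ := χ.rangeRestrict_surjective z
    obtain ⟨a, ha⟩ := exists_pow_coprime (p := p) l
    refine ⟨a, ?_⟩
    rw [← map_pow]
    refine Subtype.ext (MulEquiv.ext fun r => Subtype.ext ?_)
    show ((l ^ p ^ a : L) : G) * r * ((l ^ p ^ a : L) : G)⁻¹ = r
    rw [(h.prime_comm _ ⟨SetLike.coe_mem _, by rwa [Subgroup.orderOf_coe]⟩ r r.2).eq, mul_inv_cancel_right]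
  have hgenL : Subgroup.closure ({xL, yL} : Set L) = ⊤ := by
    rw [eq_top_iff, ← Subgroup.map_le_map_iff_of_injective L.subtype_injective, MonoidHom.map_closure,
      Set.image_pair, ← MonoidHom.range_eq_map, Subgroup.range_subtype]
    exact h.gen
  have htop := zpowers_eq_top_of_conj hχp (χ.rangeRestrict xL) (χ.rangeRestrict gL) (by
    have h' := congrArg (Subgroup.map χ.rangeRestrict) hgenL
    rwa [MonoidHom.map_closure, Set.image_pair,
      Subgroup.map_top_of_surjective _ χ.rangeRestrict_surjective, hyL, map_mul, map_mul, map_inv] at h')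
  obtain ⟨i, hi⟩ := Subgroup.mem_zpowers_iff.1 (htop.ge (Subgroup.mem_top (χ.rangeRestrict gL)))
  have he : χ.rangeRestrict yL = χ.rangeRestrict xL := by
    rw [hyL, map_mul, map_mul, map_inv, ← hi, ((Commute.refl _).zpow_left i).eq, mul_inv_cancel_right]
  exact congrArg (fun f : χ.range => (((f : MulAut ↥R) ⟨r, hr⟩ : R) : G)) he

theorem com_sq [Finite G] {l : G} (hl : l ∈ L) (hl2 : ∀ q ∈ Q, dl l (dl l q) ∈ R) {a b : G}
    (ha : a ∈ Q) (hb : b ∈ Q) :
    l * (l * ⁅a, b⁆ * l⁻¹) * l⁻¹ * ⁅a, b⁆ = (l * ⁅a, b⁆ * l⁻¹) ^ 2 * ⁅dl l a, dl l b⁆ ^ 2 := by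
  letI : CommGroup ↥R :=
    { (inferInstance : Group ↥R) with mul_comm := fun a b => Subtype.ext (h.central _ a.2 _ (h.le b.2)) }
  let w : Q → Q → ↥R := fun a b => ⟨⁅(a : G), (b : G)⁆, h.com_mem _ a.2 _ b.2⟩
  let d : Q → Q := fun a => ⟨dl l a, h.dl_mem hl a.2⟩
  have key := bimul_sq_identity w
    (fun a b c => Subtype.ext (h.com_mul_left a.2 b.2 c.2))
    (fun a b c => Subtype.ext (h.com_mul_right a.2 b.2 c.2))
    ⟨a, ha⟩ (d ⟨a, ha⟩) (d (d ⟨a, ha⟩)) ⟨b, hb⟩ (d ⟨b, hb⟩) (d (d ⟨b, hb⟩))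
    (fun c => Subtype.ext (h.com_one_left (hl2 a ha) c.2))
    (fun c => Subtype.ext (h.com_one_right (hl2 b hb) c.2))
  have key' := congrArg Subtype.val key
  have conj : ∀ u v : G, l * ⁅u, v⁆ * l⁻¹ = ⁅l * u * l⁻¹, l * v * l⁻¹⁆ := fun u v => by
    simp [commutatorElement_def, mul_assoc]
  have c2 : ∀ u : G, l * (l * u * l⁻¹) * l⁻¹ = u * dl l u * (dl l u * dl l (dl l u)) := fun u => by
    simp [dl, mul_assoc]
  rw [conj, conj, c2, c2, conj_eq_mul_dl l a, conj_eq_mul_dl l b]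
  exact key'

/-- `[Q, x]` is commutative. -/
theorem iso [Finite G] [hp' : Fact p.Prime] (hp : p ≠ 2) {a b : G} (ha : a ∈ Q) (hb : b ∈ Q) :
    ⁅dl x a, dl x b⁆ = 1 := by
  have hwxy : ∀ a ∈ Q, ∀ b ∈ Q, dl y a ∈ R → ⁅dl x a, dl x b⁆ = 1 := by
    intro a ha b hb hya
    have hR := h.com_mem a ha b hb
    have h1 := h.com_sq h.x_mem h.quad ha hb
    have h2 := h.com_sq h.y_mem (fun q hq => h.quad_y hq) ha hb
    rw [h.conj_eq_conj hR, h.conj_eq_conj (h.conj_mem' x h.x_mem _ hR), h1] at h2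
    have h3 := mul_left_cancel h2
    rw [h.com_one_left hya (h.dl_mem h.y_mem hb), one_pow] at h3
    obtain ⟨j, hj⟩ := h.pow_eq_one (h.le (h.com_mem _ (h.dl_mem h.x_mem ha) _ (h.dl_mem h.x_mem hb)))
    exact pow_gcd_two hp h3 hj
  let S : Subgroup G := Subgroup.closure {a | a ∈ Q ∧ ∀ b ∈ Q, ⁅dl x a, dl x b⁆ = 1}
  have hS : ∀ a ∈ S, a ∈ Q ∧ ∀ b ∈ Q, ⁅dl x a, dl x b⁆ = 1 := by
    intro a ha
    change a ∈ (Subgroup.closure _).toSubmonoid at ha
    rw [Subgroup.closure_toSubmonoid_of_finite] at ha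
    induction ha using Submonoid.closure_induction with
    | mem a ha => exact ha
    | one => exact ⟨Q.one_mem, fun b _ => by rw [dl_one, commutatorElement_one_left]⟩
    | mul a a' _ _ iha iha' =>
      refine ⟨Q.mul_mem iha.1 iha'.1, fun b hb => ?_⟩
      have hx := h.x_mem
      have hd := h.dl_mem hx iha.1
      rw [dl_mul, h.com_mul_left (Q.mul_mem (Q.mul_mem (Q.inv_mem iha'.1) hd) iha'.1) (h.dl_mem hx iha'.1)
        (h.dl_mem hx hb), iha'.2 b hb, mul_one]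
      have e : a'⁻¹ * dl x a * a' = dl x a * ⁅(dl x a)⁻¹, a'⁻¹⁆ := by simp [commutatorElement_def, mul_assoc]
      have hr := h.com_mem _ (Q.inv_mem hd) _ (Q.inv_mem iha'.1)
      rw [e, h.com_mul_left hd (h.le hr) (h.dl_mem hx hb), iha.2 b hb, h.com_one_left hr (h.dl_mem hx hb),
        mul_one]
  set U := Subgroup.closure ({a | a ∈ R} ∪ (dl x '' Q ∪ dl y '' Q)) with hUdef
  have hUQ : U ≤ Q := (Subgroup.closure_le _).2 (Set.union_subset (fun a ha => h.le ha)
    (Set.union_subset (by rintro _ ⟨q, hq, rfl⟩; exact h.dl_mem h.x_mem hq)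
      (by rintro _ ⟨q, hq, rfl⟩; exact h.dl_mem h.y_mem hq)))
  have hUS : U ≤ S := by
    refine (Subgroup.closure_le _).2 (Set.union_subset (fun a ha => ?_) (Set.union_subset ?_ ?_))
    · exact Subgroup.subset_closure ⟨h.le ha, fun b hb =>
        h.com_one_left (h.dl_mem' h.x_mem ha) (h.dl_mem h.x_mem hb)⟩
    · rintro _ ⟨q, hq, rfl⟩
      exact Subgroup.subset_closure ⟨h.dl_mem h.x_mem hq, fun b hb =>
        h.com_one_left (h.quad q hq) (h.dl_mem h.x_mem hb)⟩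
    · rintro _ ⟨q, hq, rfl⟩
      exact Subgroup.subset_closure ⟨h.dl_mem h.y_mem hq, fun b hb =>
        hwxy _ (h.dl_mem h.y_mem hq) b hb (h.quad_y hq)⟩
  rcases h.irr U (fun r hr => Subgroup.subset_closure (Or.inl hr)) hUQ
      (fun u hu => by
        rw [conj_eq_mul_dl]
        exact U.mul_mem hu (Subgroup.subset_closure (Or.inr (Or.inl ⟨u, hUQ hu, rfl⟩))))
      (fun u hu => by
        rw [conj_eq_mul_dl]
        exact U.mul_mem hu (Subgroup.subset_closure (Or.inr (Or.inr ⟨u, hUQ hu, rfl⟩)))) with he | he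
  · obtain ⟨q, hq, hqR⟩ := h.exists_not_mem
    exact absurd (he.le (Subgroup.subset_closure (Or.inr (Or.inl ⟨q, hq, rfl⟩)))) hqR
  · exact (hS a (hUS (he.ge ha))).2 b hb

/-- Every element has a companion commuting with the inverting element on `Q`. -/
theorem exists_lift [Finite G] [hp' : Fact p.Prime] (hp : p ≠ 2) {t : G} (ht : t ∈ pPrimeElts p L)
    (htQ : ∀ q ∈ Q, q * (t * q * t⁻¹) ∈ R) (ht2 : ∀ q ∈ Q, t * (t * q * t⁻¹) * t⁻¹ = q) (l : L) :
    ∃ l' : L, (∀ q ∈ Q, (dl (l : G) q)⁻¹ * dl (l' : G) q ∈ R) ∧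
      (∀ r ∈ R, (l' : G) * r * (l' : G)⁻¹ = l * r * (l : G)⁻¹) ∧
      ∀ q ∈ Q, t * ((l' : G) * q * (l' : G)⁻¹) * t⁻¹ = l' * (t * q * t⁻¹) * (l' : G)⁻¹ := by
  haveI := h.normal
  set tL : L := ⟨t, ht.1⟩
  have hinv : ∀ v, h.act tL v = v⁻¹ := fun v => by
    induction v using QuotientGroup.induction_on with
    | H q =>
    rw [h.act_apply, ← QuotientGroup.mk_inv, eq_comm, QuotientGroup.eq, Subgroup.mem_subgroupOf]
    simpa [h.actQ_apply] using htQ q q.2
  have htR : ∀ r ∈ R, t * r * t⁻¹ = r := fun r hr => by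
    rw [(h.prime_comm t ht r hr).eq, mul_inv_cancel_right]
  have hT2 : h.actQ tL * h.actQ tL = 1 := MulEquiv.ext fun q => Subtype.ext (ht2 q q.2)
  set T := h.actQ tL with hTdef
  have hTinv : T⁻¹ = T := inv_eq_of_mul_eq_one_left hT2
  set z : L := l * tL * l⁻¹ * tL⁻¹ with hz
  have hzV : h.act z = 1 := by
    refine MulEquiv.ext fun v => ?_
    simp only [hz, map_mul, map_inv, MulAut.mul_apply, MulAut.one_apply]
    have h1 : (h.act tL)⁻¹ v = v⁻¹ := by
      rw [MulAut.inv_def, MulEquiv.symm_apply_eq, hinv, inv_inv]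
    rw [h1, hinv, ← map_inv]
    simp
  have hzR : ∀ r ∈ R, (z : G) * r * (z : G)⁻¹ = r := fun r hr => by
    have h1 : t⁻¹ * r * t = r := by
      rw [mul_assoc, ← (h.prime_comm t ht r hr).eq, inv_mul_cancel_left]
    calc (z : G) * r * (z : G)⁻¹ = l * (t * ((l : G)⁻¹ * (t⁻¹ * r * t) * l) * t⁻¹) * (l : G)⁻¹ := by
          simp [hz, tL, mul_assoc]
      _ = l * (t * ((l : G)⁻¹ * r * (l : G)⁻¹⁻¹) * t⁻¹) * (l : G)⁻¹ := by rw [h1, inv_inv]
      _ = l * ((l : G)⁻¹ * r * (l : G)⁻¹⁻¹) * (l : G)⁻¹ := by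
          rw [htR _ (h.conj_mem' _ (L.inv_mem l.2) r hr)]
      _ = r := by group
  obtain ⟨j, hj⟩ : ∃ j : ℕ, h.actQ z ^ p ^ j = 1 := by
    obtain ⟨j, hj⟩ := IsPGroup.iff_card.1 h.isPGroup
    refine ⟨j, MulEquiv.ext fun q => Subtype.ext ?_⟩
    set d := dl (z : G) q with hd
    have hdR : d ∈ R := (h.act_fix z q).1 (by rw [hzV]; rfl)
    have hrec : ∀ i : ℕ, ((((h.actQ z) ^ i) q : Q) : G) = q * d ^ i := by
      intro i
      induction i with
      | zero => simp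
      | succ i ih =>
        rw [pow_succ', MulAut.mul_apply, h.actQ_apply, ih]
        calc (z : G) * (q * d ^ i) * (z : G)⁻¹
            = ((z : G) * q * (z : G)⁻¹) * ((z : G) * d ^ i * (z : G)⁻¹) := by group
          _ = q * d * d ^ i := by rw [conj_eq_mul_dl, ← hd, hzR _ (R.pow_mem hdR i)]
          _ = q * d ^ (i + 1) := by rw [pow_succ', mul_assoc]
    have h' : (⟨d, h.le hdR⟩ : Q) ^ Nat.card Q = 1 := pow_card_eq_one'
    rw [hj] at h'
    rw [hrec, show d ^ p ^ j = 1 from congrArg Subtype.val h', mul_one]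
    rfl
  obtain ⟨k, hk⟩ : Odd (p ^ j) := ((hp'.out).odd_of_ne_two hp).pow
  refine ⟨(z ^ (k + 1))⁻¹ * l, fun q hq => ?_, fun r hr => ?_, fun q hq => ?_⟩
  · have e : h.act ((z ^ (k + 1))⁻¹ * l) = h.act l := by
      rw [map_mul, map_inv, map_pow, hzV, one_pow, inv_one, one_mul]
    have h' := congrArg (fun f : MulAut (↥Q ⧸ R.subgroupOf Q) => f ((⟨q, hq⟩ : Q) : ↥Q ⧸ R.subgroupOf Q)) e.symm
    simp only [h.act_apply, QuotientGroup.eq, Subgroup.mem_subgroupOf, Subgroup.coe_mul, Subgroup.coe_inv,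
      h.actQ_apply] at h'
    simpa [dl, mul_assoc] using h'
  · have hzc : (z : G) ∈ Subgroup.centralizer (R : Set G) :=
      Subgroup.mem_centralizer_iff.2 fun r hr => (mul_inv_eq_iff_eq_mul.1 (hzR r hr)).symm
    have h' := Subgroup.mem_centralizer_iff.1 (inv_mem (Subgroup.pow_mem _ hzc (k + 1)))
      _ (h.conj_mem' l l.2 r hr)
    simp only [Subgroup.coe_mul, Subgroup.coe_inv, SubgroupClass.coe_pow]
    calc ((z : G) ^ (k + 1))⁻¹ * l * r * (((z : G) ^ (k + 1))⁻¹ * l)⁻¹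
        = ((z : G) ^ (k + 1))⁻¹ * (l * r * (l : G)⁻¹) * (((z : G) ^ (k + 1))⁻¹)⁻¹ := by group
      _ = _ := by rw [← h']; group
  · have e1 : h.actQ z * T = h.actQ l * T * (h.actQ l)⁻¹ := by
      simp only [hz, map_mul, map_inv, ← hTdef, inv_mul_cancel_right]
    set Z := h.actQ z with hZ
    have e2 : T * Z * T⁻¹ = Z⁻¹ := by
      refine eq_inv_of_mul_eq_one_left ?_
      have h1 : (Z * T) * (Z * T) = 1 := by
        rw [e1]
        calc _ = h.actQ l * (T * T) * (h.actQ l)⁻¹ := by group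
          _ = 1 := by rw [hT2]; group
      rw [hTinv]
      have h2 := congrArg (fun u => Z⁻¹ * u * Z) h1
      simpa [mul_assoc] using h2
    set H := Z ^ (k + 1)
    have hH : H * H = Z := by
      rw [← pow_add, show k + 1 + (k + 1) = p ^ j + 1 by omega, pow_succ, hj, one_mul]
    have hTH : T * H = H⁻¹ * T := by
      have h1 : (T * Z * T⁻¹) ^ (k + 1) = T * H * T⁻¹ := conj_pow
      rw [e2, inv_pow, eq_mul_inv_iff_mul_eq] at h1
      exact h1.symm
    have hTH' : H * T = T * H⁻¹ := by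
      calc H * T = H * (T * H) * H⁻¹ := by group
        _ = T * H⁻¹ := by rw [hTH, mul_inv_cancel_left]
    have key : h.actQ ((z ^ (k + 1))⁻¹ * l) * T = T * h.actQ ((z ^ (k + 1))⁻¹ * l) := by
      rw [map_mul, map_inv, map_pow]
      calc H⁻¹ * h.actQ l * T = H⁻¹ * (h.actQ l * T * (h.actQ l)⁻¹) * h.actQ l := by group
        _ = H⁻¹ * (Z * T) * h.actQ l := by rw [e1]
        _ = H * T * h.actQ l := by rw [← hH]; group
        _ = T * (H⁻¹ * h.actQ l) := by rw [hTH', mul_assoc]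
    exact (congrArg (fun f : MulAut ↥Q => ((f ⟨q, hq⟩ : Q) : G)) key).symm

end Piece

end Cfsg.Agent.PStab
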