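/-
Lifting stability in the normalizer form.

* `piece_false` : a `Piece` contradicts stability
* `mem_pCore_of_quad_mod` : in a group stable in the normalizer form, `[P, x, x] ≤ Z` with `Z` centralised
  by the p'-elements of `N(P)` puts `x` into `O_p(N(P)/C(P))`
-/
import Cfsg.Agent.Lib.PStab.Piece
import Cfsg.Agent.Lib.Involution.BaerSuzuki
import Cfsg.Agent.Lib.Cores.Subnormal

set_option autoImplicit false

namespace Cfsg.Agent.PStab

open Cfsg
open scoped commutatorElement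

variable {G : Type*} [Group G] {p : ℕ}

/-- A `Piece` contradicts stability in the normalizer form. -/
theorem piece_false [Finite G] [hp' : Fact p.Prime] (hp : p ≠ 2) (hst : Cfsg.IsNormalizerPStable p G)
    {L Q R : Subgroup G} {x y : G} (h : Piece p L Q R x y) : False := by
  classical
  haveI := h.normal
  haveI := h.nontrivial_quot
  obtain ⟨t, ht, htQ, ht2⟩ := h.exists_inverting hp
  have htR : ∀ r ∈ R, t * r * t⁻¹ = r := fun r hr => by
    rw [(h.prime_comm t ht r hr).eq, mul_inv_cancel_right]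
  -- the inverted elements
  let I : Set G := {i | i ∈ Q ∧ t * i * t⁻¹ = i⁻¹}
  let Q₁ := Subgroup.closure I
  let M : Subgroup L := (Subgroup.centralizer ({h.actQ ⟨t, ht.1⟩} : Set (MulAut ↥Q))).comap h.actQ
  have hM : ∀ l : L, l ∈ M ↔ ∀ q ∈ Q, t * ((l : G) * q * (l : G)⁻¹) * t⁻¹ = l * (t * q * t⁻¹) * (l : G)⁻¹ := by
    intro l
    refine Subgroup.mem_comap.trans (Subgroup.mem_centralizer_singleton_iff.trans ⟨fun e q hq => ?_, fun e => ?_⟩)
    · exact (congrArg (fun f : MulAut ↥Q => ((f ⟨q, hq⟩ : Q) : G)) e).symm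
    · exact MulEquiv.ext fun (q : ↥Q) => Subtype.ext (e (q : G) q.2).symm
  have hMI : ∀ l : L, l ∈ M → ∀ i ∈ I, (l : G) * i * (l : G)⁻¹ ∈ I := fun l hl i hi =>
    ⟨h.conj_mem _ l.2 i hi.1, by rw [(hM l).1 hl i hi.1, hi.2]; group⟩
  have hMN : ∀ l : L, l ∈ M → (l : G) ∈ Subgroup.normalizer (Q₁ : Set G) := fun l hl => by
    refine Coprime.mem_normalizer_of_forall fun z hz => ?_
    have h' : Q₁.map (MulAut.conj (l : G)).toMonoidHom ≤ Q₁ := by
      rw [MonoidHom.map_closure, Subgroup.closure_le]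
      rintro _ ⟨i, hi, rfl⟩
      exact Subgroup.subset_closure (hMI l hl i hi)
    exact h' ⟨z, hz, rfl⟩
  have hQ₁Q : Q₁ ≤ Q := (Subgroup.closure_le _).2 fun i hi => hi.1
  obtain ⟨aL, haV, haR, haT⟩ := h.exists_lift hp ht htQ ht2 ⟨x, h.x_mem⟩
  have haM : aL ∈ M := (hM aL).2 haT
  set a : G := (aL : G) with hadef
  have haR' : ∀ r ∈ R, dl a r = dl x r := fun r hr => by
    show r⁻¹ * (a * r * a⁻¹) = _
    rw [haR r hr]; rfl
  have haQ : ∀ q ∈ Q, dl a q ∈ Q := fun q hq => h.dl_mem aL.2 hq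
  have hMa : ∀ q ∈ Q, t * (a * q * a⁻¹) * t⁻¹ = a * (t * q * t⁻¹) * a⁻¹ := (hM aL).1 haM
  have hda : ∀ q ∈ Q, ∃ r ∈ R, dl a q = dl x q * r := fun q hq =>
    ⟨(dl x q)⁻¹ * dl a q, haV q hq, by group⟩
  have hada : ∀ q ∈ Q, dl a (dl a q) ∈ R := fun q hq => by
    obtain ⟨r, hr, e⟩ := hda q hq
    obtain ⟨r', hr', e'⟩ := hda _ (h.dl_mem h.x_mem hq)
    rw [e, dl_mul, e', haR' r hr]
    exact R.mul_mem (by
      have h' := R.mul_mem (h.quad q hq) hr'
      rw [mul_assoc, h.central _ h' _ (h.le hr), ← mul_assoc, inv_mul_cancel, one_mul]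
      exact h') (h.dl_mem' h.x_mem hr)
  have haiso : ∀ q ∈ Q, ∀ q' ∈ Q, ⁅dl a q, dl a q'⁆ = 1 := fun q hq q' hq' => by
    obtain ⟨r, hr, e⟩ := hda q hq
    obtain ⟨r', hr', e'⟩ := hda q' hq'
    have h1 := h.dl_mem h.x_mem hq
    have h2 := h.dl_mem h.x_mem hq'
    rw [e, e', h.com_mul_left h1 (h.le hr) (Q.mul_mem h2 (h.le hr')),
      h.com_one_left hr (Q.mul_mem h2 (h.le hr')), mul_one, h.com_mul_right h1 h2 (h.le hr'),
      h.iso hp hq hq', h.com_one_right hr' h1, one_mul]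
  let Good : G → Prop := fun q => a * dl a q * a⁻¹ = dl a q
  have hgoodI : ∀ i ∈ I, Good i := by
    intro i hi
    set d := dl a i with hddef
    have hd := haQ i hi.1
    set c := ⁅d, i⁆ with hcdef
    have hc := h.com_mem d hd i hi.1
    have hac : a * c * a⁻¹ = c := by
      have e : a * c * a⁻¹ = ⁅a * d * a⁻¹, a * i * a⁻¹⁆ := by simp [hcdef, commutatorElement_def, mul_assoc]
      rw [e, conj_eq_mul_dl a d, conj_eq_mul_dl a i, ← hddef, h.com_mul_left hd (h.le (hada i hi.1)) (Q.mul_mem hi.1 hd),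
        h.com_one_left (hada i hi.1) (Q.mul_mem hi.1 hd), mul_one, h.com_mul_right hd hi.1 hd, commutatorElement_self, mul_one]
    have htd : t * d * t⁻¹ = d⁻¹ * c := by
      have h1 : t * i⁻¹ * t⁻¹ = i := by
        have := congrArg (fun u => u⁻¹) hi.2
        simpa [mul_assoc] using this
      calc t * d * t⁻¹ = (t * i⁻¹ * t⁻¹) * (t * (a * i * a⁻¹) * t⁻¹) := by simp [hddef, dl, mul_assoc]
        _ = i * (a * i * a⁻¹)⁻¹ := by rw [h1, hMa i hi.1, hi.2]; group
        _ = d⁻¹ * c := by rw [conj_eq_mul_dl, ← hddef, hcdef, commutatorElement_def]; group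
    set r := dl a d with hrdef
    have hr : r ∈ R := hada i hi.1
    have had : a * d * a⁻¹ = d * r := conj_eq_mul_dl a d
    have e1 : t * (a * d * a⁻¹) * t⁻¹ = r⁻¹ * d⁻¹ * c := by
      rw [hMa d hd, htd]
      calc a * (d⁻¹ * c) * a⁻¹ = (a * d * a⁻¹)⁻¹ * (a * c * a⁻¹) := by group
        _ = r⁻¹ * d⁻¹ * c := by rw [had, hac, mul_inv_rev]
    have e2 : t * (a * d * a⁻¹) * t⁻¹ = d⁻¹ * c * r := by
      rw [had]
      calc t * (d * r) * t⁻¹ = (t * d * t⁻¹) * (t * r * t⁻¹) := by group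
        _ = _ := by rw [htd, htR r hr]
    have e3 : r⁻¹ * (d⁻¹ * c) = (d⁻¹ * c) * r := by rw [← mul_assoc, ← e1, e2]
    rw [← h.central r hr _ (Q.mul_mem (Q.inv_mem hd) (h.le hc))] at e3
    have e4 := mul_right_cancel e3
    obtain ⟨j, hj⟩ := h.pow_eq_one (h.le hr)
    have e5 := pow_gcd_two hp (show r ^ 2 = 1 by rw [sq, ← eq_inv_iff_mul_eq_one]; exact e4.symm) hj
    show a * d * a⁻¹ = d
    rw [had, e5, mul_one]
  have hgood : ∀ q ∈ Q₁, Good q := by
    intro q hq
    change q ∈ (Subgroup.closure I).toSubmonoid at hq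
    rw [Subgroup.closure_toSubmonoid_of_finite] at hq
    suffices h : q ∈ Q ∧ Good q from h.2
    induction hq using Submonoid.closure_induction with
    | mem i hi => exact ⟨hi.1, hgoodI i hi⟩
    | one => exact ⟨Q.one_mem, by show a * dl a 1 * a⁻¹ = _; rw [dl_one]; simp⟩
    | mul u v _ _ ihu ihv =>
      refine ⟨Q.mul_mem ihu.1 ihv.1, ?_⟩
      show a * dl a (u * v) * a⁻¹ = _
      rw [dl_mul]
      set du := dl a u
      set dv := dl a v with hdv
      have hu2 : a * du * a⁻¹ = du := ihu.2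
      have hv2 : a * dv * a⁻¹ = dv := ihv.2
      have hcomm : du * dv = dv * du := commutatorElement_eq_one_iff_commute.1 (haiso u ihu.1 v ihv.1)
      have hr := h.com_mem _ (Q.inv_mem (haQ u ihu.1)) _ (Q.inv_mem ihv.1)
      have hconj : v⁻¹ * du * v = du * ⁅du⁻¹, v⁻¹⁆ := by simp [commutatorElement_def, mul_assoc]
      have h1 : dv⁻¹ * (v⁻¹ * du * v) * dv = v⁻¹ * du * v := by
        rw [hconj, mul_assoc dv⁻¹, mul_assoc du, h.central _ hr _ (haQ v ihv.1), ← mul_assoc du, hcomm, mul_assoc dv,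
          inv_mul_cancel_left]
      calc a * (v⁻¹ * du * v * dv) * a⁻¹
          = (a * v * a⁻¹)⁻¹ * (a * du * a⁻¹) * (a * v * a⁻¹) * (a * dv * a⁻¹) := by group
        _ = (v * dv)⁻¹ * du * (v * dv) * dv := by rw [hu2, hv2, conj_eq_mul_dl, ← hdv]
        _ = (dv⁻¹ * (v⁻¹ * du * v) * dv) * dv := by group
        _ = v⁻¹ * du * v * dv := by rw [h1]
  -- quadratic on `Q₁`
  have hquad₁ : ⁅⁅Q₁, Subgroup.zpowers a⁆, Subgroup.zpowers a⁆ = ⊥ := by
    rw [Subgroup.commutator_eq_bot_iff_le_centralizer]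
    have hC : ⁅Q₁, Subgroup.zpowers a⁆ ≤ Subgroup.centralizer {a} := by
      refine Subgroup.commutator_le.2 fun q hq b hb => ?_
      obtain ⟨n, rfl⟩ : ∃ n : ℕ, a ^ n = b := by
        rwa [← Submonoid.mem_powers_iff, mem_powers_iff_mem_zpowers]
      set d := dl a q⁻¹ with hd
      have hfix : a * d * a⁻¹ = d := hgood _ (Q₁.inv_mem hq)
      have hcom : Commute a d := mul_inv_eq_iff_eq_mul.1 hfix
      have hrec : ∀ i : ℕ, a ^ i * q⁻¹ * (a ^ i)⁻¹ = q⁻¹ * d ^ i := by
        intro i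
        induction i with
        | zero => simp
        | succ i ih =>
          calc a ^ (i + 1) * q⁻¹ * (a ^ (i + 1))⁻¹ = a * (a ^ i * q⁻¹ * (a ^ i)⁻¹) * a⁻¹ := by
                rw [pow_succ']; group
            _ = (a * q⁻¹ * a⁻¹) * (a * d ^ i * a⁻¹) := by rw [ih]; group
            _ = q⁻¹ * d * d ^ i := by rw [conj_eq_mul_dl, ← hd, (hcom.pow_right i).eq, mul_inv_cancel_right]
            _ = q⁻¹ * d ^ (i + 1) := by rw [pow_succ', mul_assoc]
      have e : ⁅q, a ^ n⁆ = d ^ n := by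
        rw [commutatorElement_def, mul_assoc q, mul_assoc q, hrec n, mul_inv_cancel_left]
      rw [e, Subgroup.mem_centralizer_singleton_iff]
      exact ((hcom.pow_right n).eq).symm
    exact hC.trans (fun z hz => Subgroup.mem_centralizer_iff.2 fun b hb => by
      obtain ⟨k, rfl⟩ := Subgroup.mem_zpowers_iff.1 hb
      have : Commute a z := (Subgroup.mem_centralizer_singleton_iff.1 hz).symm
      exact (this.zpow_left k).eq)
  -- contradiction with stability
  have haN : a ∈ Subgroup.normalizer (Q₁ : Set G) := hMN aL haM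
  have hmem := hst Q₁ (h.isPGroup.to_le hQ₁Q) a haN hquad₁
  let N := Subgroup.normalizer (Q₁ : Set G)
  let C := (Subgroup.centralizer (Q₁ : Set G)).subgroupOf N
  let j : ↥M →* ↥N := (L.subtype.comp M.subtype).codRestrict N fun l => hMN _ l.2
  let π : ↥M →* ↥N ⧸ C := (QuotientGroup.mk' C).comp j
  let W : Subgroup M := (Cfsg.pCore p (↥N ⧸ C)).comap π
  have hWn : W.Normal := (Subgroup.sSup_normal _ (fun K hK => hK.1)).comap π
  let X := W.map (h.act.comp M.subtype)
  have hXp : IsPGroup p X := by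
    rintro ⟨f, l, hl, rfl⟩
    obtain ⟨k, hk⟩ := Cores.isPGroup_pCore p _ ⟨π l, hl⟩
    refine ⟨k, Subtype.ext (MulEquiv.ext fun v => ?_)⟩
    induction v using QuotientGroup.induction_on with
    | H q =>
    simp only [SubgroupClass.coe_pow, OneMemClass.coe_one, MulAut.one_apply]
    rw [← map_pow, MonoidHom.comp_apply, Subgroup.subtype_apply, h.act_fix]
    have hk' : ((l ^ p ^ k : M) : L) ∈ (Subgroup.centralizer (Q₁ : Set G)).comap L.subtype := by
      have h1 := congrArg Subtype.val hk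
      simp only [SubgroupClass.coe_pow, OneMemClass.coe_one, ← map_pow] at h1
      exact (QuotientGroup.eq_one_iff (j (l ^ p ^ k))).1 h1
    have hc := Subgroup.mem_centralizer_iff.1 (Subgroup.mem_comap.1 hk')
    -- `q = i r` with `i` inverted
    obtain ⟨s', hs', hs2⟩ := exists_sq hp (h.isPGroup.to_le h.le) (R.inv_mem (htQ q q.2))
    set i := (q : G) * s' with hidef
    have hiI : i ∈ I := by
      refine ⟨Q.mul_mem q.2 (h.le hs'), ?_⟩
      calc t * ((q : G) * s') * t⁻¹ = (t * q * t⁻¹) * (t * s' * t⁻¹) := by group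
        _ = (t * q * t⁻¹) * s' := by rw [htR s' hs']
        _ = (q : G)⁻¹ * ((q * (t * q * t⁻¹)) * (s' * s')) * s'⁻¹ := by group
        _ = (q : G)⁻¹ * s'⁻¹ := by rw [hs2, mul_inv_cancel, mul_one]
        _ = i⁻¹ := by rw [← h.central _ (R.inv_mem hs') _ (Q.inv_mem q.2), ← mul_inv_rev]
    have hci := hc i (Subgroup.subset_closure hiI)
    simp only [Subgroup.subtype_apply] at hci
    set u : G := (((l ^ p ^ k : M) : L) : G)
    have hru := h.conj_mem' u (SetLike.coe_mem _) _ (R.inv_mem hs')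
    have : dl u q = s' * (u * s'⁻¹ * u⁻¹) := by
      calc dl u q = (q : G)⁻¹ * (u * i) * u⁻¹ * (u * s'⁻¹ * u⁻¹) := by simp [dl, hidef, mul_assoc]
        _ = _ := by rw [← hci]; simp [hidef, mul_assoc]
    rw [this]
    exact R.mul_mem hs' hru
  have hnorm : ∀ l : L, h.act l ∈ Subgroup.normalizer (X : Set (MulAut (↥Q ⧸ R.subgroupOf Q))) := fun l => by
    obtain ⟨l', hl', -, hlT⟩ := h.exists_lift hp ht htQ ht2 l
    have e : h.act l' = h.act l := MulEquiv.ext fun v => by
      induction v using QuotientGroup.induction_on with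
      | H q =>
      rw [h.act_apply, h.act_apply, eq_comm, QuotientGroup.eq, Subgroup.mem_subgroupOf]
      simpa [dl, h.actQ_apply, mul_assoc] using hl' q q.2
    rw [← e]
    exact Subgroup.le_normalizer_map (h.act.comp M.subtype)
      ⟨⟨l', (hM l').2 hlT⟩, Subgroup.le_normalizer_of_normal (H := W) (K := ⊤) (Subgroup.mem_top _), rfl⟩
  have hX := eq_bot_of_irreducible (h.isPGroup.to_quotient _) hXp (h.act ⟨x, h.x_mem⟩) (h.act ⟨y, h.y_mem⟩)
    (hnorm _) (hnorm _) h.irr_quot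
  obtain ⟨q, hq, hqR⟩ := h.exists_not_mem
  have h1 := (Subgroup.eq_bot_iff_forall _).1 hX (h.act aL) ⟨⟨aL, haM⟩, hmem, rfl⟩
  obtain ⟨r, hr, e⟩ := hda q hq
  have h2 : dl a q ∈ R := (h.act_fix aL ⟨q, hq⟩).1 (by rw [h1]; rfl)
  rw [e] at h2
  exact hqR ((Subgroup.mul_mem_cancel_right _ hr).1 h2)

theorem exists_piece [Finite G] [hp' : Fact p.Prime] {L P : Subgroup G} (hP : IsPGroup p P)
    (hLP : L ≤ Subgroup.normalizer (P : Set G)) {x g : G} (hx : x ∈ L) (hg : g ∈ L)
    (hgen : L ≤ Subgroup.closure ({x, g * x * g⁻¹} : Set G))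
    (hne : ¬ P ≤ Subgroup.centralizer (pPrimeElts p L))
    (hquad : ∀ q ∈ P, dl x (dl x q) ∈ Subgroup.centralizer (pPrimeElts p L)) :
    ∃ Q R : Subgroup G, Piece p L Q R x (g * x * g⁻¹) := by
  classical
  obtain ⟨Q, hQ⟩ := (Set.toFinite {U : Subgroup G | U ≤ P ∧ L ≤ Subgroup.normalizer (U : Set G) ∧
    ¬ U ≤ Subgroup.centralizer (pPrimeElts p L)}).exists_minimal ⟨P, le_rfl, hLP, hne⟩
  obtain ⟨⟨hQP, hLQ, hQne⟩, hQmin⟩ := hQ
  have hQp : IsPGroup p Q := hP.to_le hQP
  have hmin : ∀ U : Subgroup G, U ≤ Q → L ≤ Subgroup.normalizer (U : Set G) → U ≠ Q →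
      U ≤ Subgroup.centralizer (pPrimeElts p L) := fun U hU hUN hUne => by
    by_contra h
    exact hUne (le_antisymm hU (hQmin ⟨hU.trans hQP, hUN, h⟩ hU))
  set R := Q ⊓ Subgroup.centralizer (pPrimeElts p L) with hRdef
  have hRQ : R ≤ Q := inf_le_left
  have hN : ∀ l ∈ L, ∀ q ∈ Q, l * q * l⁻¹ ∈ Q := fun l hl q hq =>
    (Subgroup.mem_normalizer_iff.1 (hLQ hl) q).1 hq
  have hdQ : ∀ l ∈ L, ∀ q ∈ Q, dl l q ∈ Q := fun l hl q hq => Q.mul_mem (Q.inv_mem hq) (hN l hl q hq)
  have hNR : ∀ l ∈ L, ∀ r ∈ R, l * r * l⁻¹ ∈ R := fun l hl r hr => by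
    refine ⟨hN l hl r hr.1, Subgroup.mem_centralizer_iff.2 fun k hk => ?_⟩
    have hk' : l⁻¹ * k * l ∈ pPrimeElts p L := ⟨L.mul_mem (L.mul_mem (L.inv_mem hl) hk.1) hl, by
      have : orderOf (l⁻¹ * k * l) = orderOf k := by
        rw [← orderOf_injective (MulAut.conj l).toMonoidHom (MulAut.conj l).injective (l⁻¹ * k * l)]
        simp [mul_assoc]
      rw [this]; exact hk.2⟩
    have h := Subgroup.mem_centralizer_iff.1 hr.2 _ hk'
    calc k * (l * r * l⁻¹) = l * ((l⁻¹ * k * l) * r) * l⁻¹ := by group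
      _ = _ := by rw [h]; group
  have hkR : ∀ k ∈ pPrimeElts p L, ∀ r ∈ R, Commute k r := fun k hk r hr =>
    Subgroup.mem_centralizer_iff.1 hr.2 k hk
  have hQpow : ∀ q ∈ Q, ∃ j : ℕ, q ^ p ^ j = 1 := fun q hq => by
    obtain ⟨j, hj⟩ := hQp ⟨q, hq⟩
    exact ⟨j, congrArg Subtype.val hj⟩
  have hstab : ∀ k ∈ pPrimeElts p L, ∀ q ∈ Q, dl k q ∈ R → k * q = q * k := by
    intro k hk q hq hd
    obtain ⟨j, hj⟩ := hQpow _ (hRQ hd)
    have h1 := eq_one_of_stab (conj_eq_mul_dl k q) (hkR k hk _ hd) hk.2 hj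
    have h2 := conj_eq_mul_dl k q
    rw [h1, mul_one, mul_inv_eq_iff_eq_mul] at h2
    exact h2
  have hQbot : Q ≠ ⊥ := fun h => hQne (h ▸ bot_le)
  -- the derived subgroup
  have hQ' : ⁅Q, Q⁆ ≤ R := by
    refine le_inf (Subgroup.commutator_le_self Q) (hmin _ (Subgroup.commutator_le_self Q) ?_ ?_)
    · intro l hl
      refine Coprime.mem_normalizer_of_forall fun z hz => ?_
      have h : ⁅Q, Q⁆.map (MulAut.conj l).toMonoidHom ≤ ⁅Q, Q⁆ := by
        rw [Subgroup.map_commutator]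
        refine Subgroup.commutator_mono ?_ ?_ <;>
          · rintro _ ⟨q, hq, rfl⟩; exact hN l hl q hq
      exact h ⟨z, hz, rfl⟩
    · intro e
      refine hQbot ?_
      haveI : Group.IsNilpotent Q := hQp.isNilpotent
      obtain ⟨n, hn⟩ := (Subgroup.isNilpotent_iff_lowerCentralSeries Q).1 inferInstance
      have hall : ∀ k, Q.lowerCentralSeries k = Q := by
        intro k
        induction k with
        | zero => rfl
        | succ k ih => rw [Subgroup.lowerCentralSeries_succ, ih]; exact e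
      exact (hall n).symm.trans hn
  have hcomR : ∀ a ∈ Q, ∀ b ∈ Q, ⁅a, b⁆ ∈ R := fun a ha b hb => hQ' (Subgroup.commutator_mem_commutator ha hb)
  -- `R` is central in `Q`
  have hRC : ∀ r ∈ R, ∀ q ∈ Q, r * q = q * r := by
    suffices h : Q ⊓ Subgroup.centralizer (R : Set G) = Q from fun r hr q hq =>
      Subgroup.mem_centralizer_iff.1 (h.ge hq).2 r hr
    by_contra hC
    have hle := hmin _ inf_le_left (fun l hl => Coprime.mem_normalizer_of_forall fun z hz => by
      refine ⟨hN l hl z hz.1, Subgroup.mem_centralizer_iff.2 fun r hr => ?_⟩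
      have h := Subgroup.mem_centralizer_iff.1 hz.2 _ (hNR l⁻¹ (L.inv_mem hl) r hr)
      calc r * (l * z * l⁻¹) = l * ((l⁻¹ * r * l⁻¹⁻¹) * z) * l⁻¹ := by group
        _ = _ := by rw [h]; group) hC
    refine hQne fun q hq => Subgroup.mem_centralizer_iff.2 fun k hk => hstab k hk q hq ?_
    refine ⟨hdQ k hk.1 q hq, hle ⟨hdQ k hk.1 q hq, Subgroup.mem_centralizer_iff.2 fun r hr => ?_⟩⟩
    -- `[q, r]` is fixed by `k`
    have h1 : ∀ r ∈ R, k * ⁅q, r⁆ * k⁻¹ = ⁅q, r⁆ := fun r hr => by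
      rw [(hkR k hk _ (hcomR q hq r (hRQ hr))).eq, mul_inv_cancel_right]
    have h2 : k * r * k⁻¹ = r := by rw [(hkR k hk r hr).eq, mul_inv_cancel_right]
    have h3 : ⁅k * q * k⁻¹, r⁆ = ⁅q, r⁆ := by
      conv_rhs => rw [← h1 r hr]
      conv_lhs => rw [← h2]
      simp [commutatorElement_def, mul_assoc]
    simp only [dl]
    simp only [commutatorElement_def] at h3
    have h4 : k * q * k⁻¹ * r * (k * q * k⁻¹)⁻¹ = q * r * q⁻¹ := mul_right_cancel h3
    calc r * (q⁻¹ * (k * q * k⁻¹)) = q⁻¹ * (q * r * q⁻¹) * (k * q * k⁻¹) := by group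
      _ = q⁻¹ * (k * q * k⁻¹ * r * (k * q * k⁻¹)⁻¹) * (k * q * k⁻¹) := by rw [h4]
      _ = q⁻¹ * (k * q * k⁻¹) * r := by group
  haveI hRn : (R.subgroupOf Q).Normal := ⟨fun r hr q => by
    rw [Subgroup.mem_subgroupOf] at hr ⊢
    rw [Subgroup.coe_mul, Subgroup.coe_mul, Subgroup.coe_inv, ← hRC _ hr _ q.2, mul_inv_cancel_right]
    exact hr⟩
  have hinvU : ∀ U : Subgroup G, (∀ u ∈ U, x * u * x⁻¹ ∈ U) →
      (∀ u ∈ U, g * x * g⁻¹ * u * (g * x * g⁻¹)⁻¹ ∈ U) → L ≤ Subgroup.normalizer (U : Set G) := by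
    intro U h1 h2
    refine hgen.trans ((Subgroup.closure_le _).2 ?_)
    rintro z (rfl | rfl)
    exacts [Coprime.mem_normalizer_of_forall h1, Coprime.mem_normalizer_of_forall h2]
  refine ⟨Q, R, ⟨hQp, hRQ, hQne, hN, hNR, hkR, hcomR, hRC, ?_, hx, ⟨g, hg, rfl⟩, hgen, ?_,
    fun q hq => ⟨hdQ x hx _ (hdQ x hx q hq), hquad q (hQP hq)⟩⟩⟩
  · -- exponent
    let π := QuotientGroup.mk' (R.subgroupOf Q)
    have hc : ∀ a b : ↥Q, Commute (π a) (π b) := fun a b => by
      show π a * π b = π b * π a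
      rw [← map_mul, ← map_mul, QuotientGroup.mk'_apply, QuotientGroup.mk'_apply, QuotientGroup.eq,
        Subgroup.mem_subgroupOf]
      have h' := hcomR _ (Q.inv_mem b.2) _ (Q.inv_mem a.2)
      simpa [commutatorElement_def, mul_assoc] using h'
    let P1 : ↥Q →* ↥Q ⧸ R.subgroupOf Q :=
      { toFun := fun a => π a ^ p
        map_one' := by simp
        map_mul' := fun a b => by rw [map_mul, (hc a b).mul_pow] }
    set U := P1.ker.map Q.subtype with hUdef
    by_contra hno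
    push Not at hno
    obtain ⟨q, hq, hqR⟩ := hno
    have hmem : ∀ a : ↥Q, a ∈ P1.ker ↔ (a : G) ^ p ∈ R := fun a => by
      rw [MonoidHom.mem_ker]
      show π a ^ p = 1 ↔ _
      rw [← map_pow, QuotientGroup.mk'_apply, QuotientGroup.eq_one_iff, Subgroup.mem_subgroupOf,
        Subgroup.coe_pow]
    have hUN : L ≤ Subgroup.normalizer (U : Set G) := fun l hl => Coprime.mem_normalizer_of_forall fun z hz => by
      obtain ⟨a, ha, rfl⟩ := hz
      refine ⟨⟨_, hN l hl _ a.2⟩, (hmem _).2 ?_, rfl⟩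
      show (l * (a : G) * l⁻¹) ^ p ∈ R
      rw [conj_pow]
      exact hNR l hl _ ((hmem a).1 ha)
    have hUne : U ≠ Q := fun e => by
      obtain ⟨a, ha, hae⟩ := e.ge hq
      exact hqR (hae ▸ (hmem a).1 ha)
    have hUR : U ≤ R := le_inf (Subgroup.map_subtype_le _) (hmin U (Subgroup.map_subtype_le _) hUN hUne)
    -- climb down from `q`
    obtain ⟨j, hj⟩ := hQpow q hq
    have : ∀ i : ℕ, q ^ p ^ (i + 1) ∈ R → q ^ p ∈ R := by
      intro i
      induction i with
      | zero => intro h; simpa using h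
      | succ i ih =>
        intro h
        refine ih (hUR ⟨⟨q ^ p ^ (i + 1), Q.pow_mem hq _⟩, (hmem _).2 ?_, rfl⟩)
        show (q ^ p ^ (i + 1)) ^ p ∈ R
        rwa [← pow_mul, ← pow_succ]
    exact hqR (this j (by rw [pow_succ, pow_mul, hj, one_pow]; exact R.one_mem))
  · intro U hRU hUQ h1 h2
    by_cases hU : U = Q
    · exact Or.inr hU
    · exact Or.inl (le_antisymm (le_inf hUQ (hmin U hUQ (hinvU U h1 h2) hU)) hRU)

/-- **Stability lifts**: quadratic action modulo a subgroup centralised by the `p'`-elements. -/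
theorem mem_pCore_of_quad_mod [Finite G] [Fact p.Prime] (hp : p ≠ 2) (hst : Cfsg.IsNormalizerPStable p G)
    {P Z : Subgroup G} (hP : IsPGroup p P) {x : G} (hx : x ∈ Subgroup.normalizer (P : Set G))
    (hZ : ∀ k ∈ Subgroup.normalizer (P : Set G), (orderOf k).Coprime p → ∀ z ∈ Z, Commute k z)
    (hquad : ∀ v ∈ P, dl x (dl x v) ∈ Z) :
    (QuotientGroup.mk (⟨x, hx⟩ : ↥(Subgroup.normalizer (P : Set G))) :
        ↥(Subgroup.normalizer (P : Set G)) ⧸
          (Subgroup.centralizer (P : Set G)).subgroupOf (Subgroup.normalizer (P : Set G))) ∈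
      pCore p (↥(Subgroup.normalizer (P : Set G)) ⧸
          (Subgroup.centralizer (P : Set G)).subgroupOf (Subgroup.normalizer (P : Set G))) := by
  classical
  set N := Subgroup.normalizer (P : Set G)
  set C := (Subgroup.centralizer (P : Set G)).subgroupOf N
  let π := QuotientGroup.mk' C
  set xN : N := ⟨x, hx⟩
  by_contra hnot
  -- `H` is bad if it contains `x` and a conjugator giving a pair not acting as a p-group
  let Bad : Set (Subgroup N) := {H | xN ∈ H ∧ ∃ g ∈ H,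
    ¬ IsPGroup p ((Subgroup.closure ({xN, g * xN * g⁻¹} : Set N)).map π)}
  have hne : Bad.Nonempty := by
    refine ⟨⊤, Subgroup.mem_top _, ?_⟩
    by_contra h
    push Not at h
    refine hnot ?_
    have hp' : IsPGroup p (Subgroup.normalClosure ({π xN} : Set (N ⧸ C))) := by
      refine Involution.baer_suzuki_element _ fun g => ?_
      obtain ⟨g, rfl⟩ := QuotientGroup.mk'_surjective C g
      rw [← map_inv, ← map_mul, ← map_mul, ← Set.image_pair, ← MonoidHom.map_closure]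
      exact h g (Subgroup.mem_top _)
    exact Cores.le_pCore Subgroup.normalClosure_normal hp' (Subgroup.subset_normalClosure rfl)
  obtain ⟨L', hL'⟩ := (Set.toFinite Bad).exists_minimal hne
  obtain ⟨⟨hxL, g, hgL, hpair⟩, hmin⟩ := hL'
  set H := Subgroup.closure ({xN, g * xN * g⁻¹} : Set N)
  have hHL : H ≤ L' := (Subgroup.closure_le _).2 (by
    rintro z (rfl | rfl)
    exacts [hxL, L'.mul_mem (L'.mul_mem hgL hxL) (L'.inv_mem hgL)])
  have hxH : xN ∈ H := Subgroup.subset_closure (Or.inl rfl)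
  have hyH : g * xN * g⁻¹ ∈ H := Subgroup.subset_closure (Or.inr rfl)
  have hHbad : H ∈ Bad := by
    refine ⟨hxH, ?_⟩
    by_contra h
    push Not at h
    refine hpair ?_
    let K := H.map π
    have hxK : π xN ∈ K := ⟨xN, hxH, rfl⟩
    have hx1 : IsPGroup p (Subgroup.zpowers (π xN)) := by
      have h1 := h 1 H.one_mem
      rw [one_mul, inv_one, mul_one, Set.pair_eq_singleton, ← Subgroup.zpowers_eq_closure,
        MonoidHom.map_zpowers] at h1
      exact h1
    let xK : K := ⟨π xN, hxK⟩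
    let yK : K := ⟨π (g * xN * g⁻¹), ⟨_, hyH, rfl⟩⟩
    have hb : IsPGroup p (Subgroup.normalClosure ({xK} : Set K)) := by
      refine Involution.baer_suzuki_element _ fun c => ?_
      obtain ⟨c', hc', hce⟩ := c.2
      refine IsPGroup.of_equiv ?_ (Subgroup.equivMapOfInjective _ K.subtype K.subtype_injective).symm
      have e : (Subgroup.closure ({xK, c * xK * c⁻¹} : Set K)).map K.subtype =
          (Subgroup.closure ({xN, c' * xN * c'⁻¹} : Set N)).map π := by
        rw [MonoidHom.map_closure, MonoidHom.map_closure, Set.image_pair, Set.image_pair]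
        simp [xK, ← hce]
      rw [e]
      exact h c' hc'
    have hy1 : IsPGroup p (Subgroup.zpowers yK) := by
      refine IsPGroup.of_equiv ?_ (Subgroup.equivMapOfInjective _ K.subtype K.subtype_injective).symm
      rw [MonoidHom.map_zpowers]
      show IsPGroup p (Subgroup.zpowers (π (g * xN * g⁻¹)))
      have h2 := hx1.map (MulAut.conj (π g)).toMonoidHom
      rw [MonoidHom.map_zpowers] at h2
      rw [show π (g * xN * g⁻¹) = (MulAut.conj (π g)).toMonoidHom (π xN) by simp [map_mul, map_inv]]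
      exact h2
    have htop : Subgroup.normalClosure ({xK} : Set K) ⊔ Subgroup.zpowers yK = ⊤ := by
      rw [eq_top_iff, ← Subgroup.map_le_map_iff_of_injective K.subtype_injective, ← MonoidHom.range_eq_map,
        Subgroup.range_subtype]
      show H.map π ≤ _
      rw [MonoidHom.map_closure, Subgroup.closure_le, Set.image_pair]
      rintro z (rfl | rfl)
      · exact ⟨xK, Subgroup.mem_sup_left (Subgroup.subset_normalClosure rfl), rfl⟩
      · exact ⟨yK, Subgroup.mem_sup_right (Subgroup.mem_zpowers yK), rfl⟩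
    have := IsPGroup.to_sup_of_normal_left hb hy1
    rw [htop] at this
    exact this.map K.subtype |>.to_le (by rw [← MonoidHom.range_eq_map, Subgroup.range_subtype])
  have hLH : L' ≤ H := hmin hHbad hHL
  have hL'H : L' = H := le_antisymm hLH hHL
  -- back in `G`
  set L : Subgroup G := L'.map N.subtype with hLdef
  have hLP : L ≤ Subgroup.normalizer (P : Set G) := Subgroup.map_subtype_le _
  have hPne : ¬ P ≤ Subgroup.centralizer (pPrimeElts p L) := by
    intro hle
    refine hpair ?_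
    rintro ⟨_, l, hl, rfl⟩
    obtain ⟨a, ha⟩ := exists_pow_coprime (p := p) l
    refine ⟨a, Subtype.ext ?_⟩
    rw [SubgroupClass.coe_pow, OneMemClass.coe_one, ← map_pow]
    refine (QuotientGroup.eq_one_iff _).2 (Subgroup.mem_subgroupOf.2 (Subgroup.mem_centralizer_iff.2 fun v hv => ?_))
    exact ((Subgroup.mem_centralizer_iff.1 (hle hv)) _
      ⟨⟨l ^ p ^ a, L'.pow_mem (hHL hl) _, rfl⟩, by rwa [Subgroup.subtype_apply, Subgroup.orderOf_coe]⟩).symm
  obtain ⟨Q, R, hpc⟩ := exists_piece hP hLP (x := x) (g := (g : G)) ⟨xN, hxL, rfl⟩ ⟨g, hgL, rfl⟩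
    (by rw [hLdef, hL'H, MonoidHom.map_closure, Set.image_pair]; rfl) hPne
    (fun q hq => Subgroup.mem_centralizer_iff.2 fun k hk => hZ k (hLP hk.1) hk.2 _ (hquad q hq))
  exact piece_false hp hst hpc

end Cfsg.Agent.PStab
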