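/-
Glauberman: in a group stable in the normalizer form, `N(Z(J(S)))` controls strong fusion (p odd).

* `map_centerThompsonAOf`, `isConjugacyFunctor_centerThompsonAOf`
* `isNormalizerPStable_quotient` : stability passes to the quotient by a normal p-subgroup centralised by
  the p'-elements
* `Ctl`, `ctl` : control of strong fusion by `N(Z(J(S)))`
-/
import Cfsg.Agent.Lib.PStab.Lift
import Cfsg.Agent.Lib.PLocal.ZJ
import Cfsg.Agent.Lib.PLocal.Quotient
import Cfsg.Agent.Lib.AlperinFamily.Control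
import Cfsg.Agent.Lib.Transfer.Residual
import Cfsg.Agent.S3836

set_option autoImplicit false

namespace Cfsg.Agent.PStab

open Cfsg
open scoped commutatorElement Pointwise

universe u

variable {G : Type u} [Group G] {p : ℕ}

theorem map_centerThompsonAOf {G' : Type*} [Group G'] (f : G →* G') {H : Subgroup G} (hf : Set.InjOn f H) :
    (Cfsg.centerThompsonAOf H).map f = Cfsg.centerThompsonAOf (H.map f) := by
  rw [Cfsg.centerThompsonAOf, Cfsg.centerThompsonAOf,
    PLocal.map_centralizer_inf f (hf.mono (PLocal.thompsonSubgroupAOf_le H)) le_rfl,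
    PLocal.map_thompsonSubgroupAOf f hf]

theorem centerThompsonAOf_eq_sInf [Finite G] (H : Subgroup G) :
    Cfsg.centerThompsonAOf H = sInf (PLocal.maxIn PLocal.abelian H) := by
  rw [PLocal.sInf_maxIn_abelian, ← PLocal.thompsonSubgroupAOf_eq]
  rfl

theorem centerThompsonAOf_le (H : Subgroup G) : Cfsg.centerThompsonAOf H ≤ H :=
  inf_le_left.trans (PLocal.thompsonSubgroupAOf_le H)

theorem isConjugacyFunctor_centerThompsonAOf [Finite G] [Fact p.Prime] :
    Cfsg.IsConjugacyFunctor p (fun H : Subgroup G => Cfsg.centerThompsonAOf H) := by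
  intro P hP
  refine ⟨centerThompsonAOf_le P, fun hne he => ?_, fun g => ?_⟩
  · haveI : Nontrivial P := (Subgroup.nontrivial_iff_ne_bot P).2 hne
    have := hP.center_nontrivial
    obtain ⟨⟨z, hz⟩, hz1⟩ := exists_ne (1 : Subgroup.center P)
    have hzW : (z : G) ∈ Cfsg.centerThompsonAOf P := by
      rw [centerThompsonAOf_eq_sInf, Subgroup.mem_sInf]
      intro A hA
      exact PLocal.mem_of_centralizes_abelian hA z.2 (Subgroup.mem_centralizer_iff.2 fun a ha =>
        congrArg Subtype.val ((Subgroup.mem_center_iff.1 hz) ⟨a, hA.1 ha⟩))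
    rw [show Cfsg.centerThompsonAOf P = ⊥ from he, Subgroup.mem_bot] at hzW
    exact hz1 (Subtype.ext (Subtype.ext hzW))
  · exact (map_centerThompsonAOf _ (MulAut.conj g).injective.injOn).symm

theorem dl_map {G' : Type*} [Group G'] (f : G →* G') (l q : G) : dl (f l) (f q) = f (dl l q) := by
  simp [dl]

/-- The elementwise form of quadratic action. -/
theorem dl_dl_eq_one {P : Subgroup G} {g : G} (hg : g ∈ Subgroup.normalizer (P : Set G))
    (hq : ⁅⁅P, Subgroup.zpowers g⁆, Subgroup.zpowers g⁆ = ⊥) {v : G} (hv : v ∈ P) : dl g (dl g v) = 1 := by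
  have h1 : dl g v ∈ ⁅P, Subgroup.zpowers g⁆ := by
    have h := Subgroup.commutator_mem_commutator (H₁ := P) (H₂ := Subgroup.zpowers g) (P.inv_mem hv)
      (Subgroup.mem_zpowers g)
    simpa [dl, commutatorElement_def, mul_assoc] using h
  have h2 := Subgroup.mem_centralizer_iff.1 ((Subgroup.commutator_eq_bot_iff_le_centralizer.1 hq) h1) g
    (Subgroup.mem_zpowers g)
  show (dl g v)⁻¹ * (g * dl g v * g⁻¹) = 1
  rw [h2, mul_inv_cancel_right, inv_mul_cancel]

/-- Stability passes to the quotient by a normal p-subgroup centralised by the p'-elements. -/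
theorem isNormalizerPStable_quotient [Finite G] [Fact p.Prime] (hp : p ≠ 2)
    (hst : Cfsg.IsNormalizerPStable p G) (T : Subgroup G) [T.Normal] (hT : IsPGroup p T)
    (hpc : ∀ k : G, (orderOf k).Coprime p → ∀ z ∈ T, Commute k z) :
    Cfsg.IsNormalizerPStable p (G ⧸ T) := by
  intro P hP g hg hquad
  let π := QuotientGroup.mk' T
  have hπ : Function.Surjective π := QuotientGroup.mk'_surjective T
  set P₀ := P.comap π with hP₀
  have hP₀p : IsPGroup p P₀ := hP.comap_of_ker_isPGroup π (by rw [QuotientGroup.ker_mk']; exact hT)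
  obtain ⟨x, rfl⟩ := hπ g
  have hN : (Subgroup.normalizer (P : Set (G ⧸ T))).comap π = Subgroup.normalizer (P₀ : Set G) :=
    Subgroup.comap_normalizer_eq_of_surjective P hπ
  have hx : x ∈ Subgroup.normalizer (P₀ : Set G) := hN.le hg
  have key := mem_pCore_of_quad_mod hp hst hP₀p hx (Z := T) (fun k _ hk => hpc k hk) (fun v hv => by
    have h := dl_dl_eq_one hg hquad (v := π v) hv
    rw [dl_map, dl_map] at h
    exact (QuotientGroup.eq_one_iff _).1 h)
  let N := Subgroup.normalizer (P₀ : Set G)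
  let N' := Subgroup.normalizer (P : Set (G ⧸ T))
  let j : ↥N →* ↥N' := (π.comp N.subtype).codRestrict N' fun n => hN.ge n.2
  have hle : (Subgroup.centralizer (P₀ : Set G)).subgroupOf N ≤
      ((Subgroup.centralizer (P : Set (G ⧸ T))).subgroupOf N').comap j := by
    intro n hn
    refine Subgroup.mem_subgroupOf.2 (Subgroup.mem_centralizer_iff.2 fun v hv => ?_)
    obtain ⟨v, rfl⟩ := hπ v
    show π v * π (n : G) = π (n : G) * π v
    rw [← map_mul, ← map_mul, Subgroup.mem_centralizer_iff.1 (Subgroup.mem_subgroupOf.1 hn) v hv]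
  let f := QuotientGroup.map _ _ j hle
  have hf : Function.Surjective f := by
    intro z
    obtain ⟨⟨z, hz⟩, rfl⟩ := QuotientGroup.mk_surjective z
    obtain ⟨n, rfl⟩ := hπ z
    exact ⟨((⟨n, hN.le hz⟩ : N) : ↥N ⧸ _), rfl⟩
  exact Cores.map_pCore_le f hf p ⟨_, key, rfl⟩

/-- `N(Z(J(S)))` controls strong fusion. -/
def Ctl (p : ℕ) (G : Type u) [Group G] : Prop :=
  ∀ (S : Sylow p G) (A : Set G) (g : G), A ⊆ (S : Subgroup G) →
    (fun a => g * a * g⁻¹) '' A ⊆ (S : Subgroup G) →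
    ∃ n ∈ Subgroup.normalizer ((Cfsg.centerThompsonAOf (S : Subgroup G) : Subgroup G) : Set G),
      ∀ a ∈ A, n * a * n⁻¹ = g * a * g⁻¹

/-- Control inside a subgroup, in terms of the whole group. -/
theorem ctl_subgroup [Finite G] [Fact p.Prime] {H : Subgroup G} (h : Ctl p ↥H) {R : Subgroup G}
    (hR : Fusion.IsSylowIn p R H) {A : Set G} {g : G} (hg : g ∈ H) (hA : A ⊆ R)
    (hgA : (fun a => g * a * g⁻¹) '' A ⊆ R) :
    ∃ n ∈ H ⊓ Subgroup.normalizer ((Cfsg.centerThompsonAOf R : Subgroup G) : Set G),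
      ∀ a ∈ A, n * a * n⁻¹ = g * a * g⁻¹ := by
  obtain ⟨P, hP⟩ := (Fusion.isSylowIn_iff_exists hR.1).1 hR
  obtain ⟨n, hn, hne⟩ := h P (H.subtype ⁻¹' A) ⟨g, hg⟩
    (fun a ha => by rw [hP]; exact hA ha)
    (by rintro _ ⟨a, ha, rfl⟩; rw [hP]; exact hgA ⟨a, ha, rfl⟩)
  refine ⟨n, ⟨n.2, ?_⟩, fun a ha => congrArg Subtype.val (hne ⟨a, hR.1 (hA ha)⟩ ha)⟩
  have h1 := Subgroup.le_normalizer_map H.subtype ⟨n, hn, rfl⟩
  rw [map_centerThompsonAOf H.subtype H.subtype_injective.injOn, hP,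
    Subgroup.subgroupOf_map_subtype, inf_eq_left.2 hR.1] at h1
  exact h1

/-- In a normal subgroup whose elements have a p-power in `K`, a Sylow subgroup and `K` generate. -/
theorem le_inf_sup [Finite G] [hp : Fact p.Prime] {D K S : Subgroup G} (hKn : ∀ d ∈ D, ∀ k ∈ K, d * k * d⁻¹ ∈ K)
    (hKD : K ≤ D) (hS : Fusion.IsSylowIn p S D) (h : ∀ d ∈ D, ∃ n, d ^ p ^ n ∈ K) :
    ∀ d ∈ D, ∃ s ∈ S, ∃ k ∈ K, d = s * k := by
  obtain ⟨P, hP⟩ := (Fusion.isSylowIn_iff_exists hS.1).1 hS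
  set K' := K.subgroupOf D with hK'
  haveI : K'.Normal := ⟨fun k hk d => hKn _ d.2 _ hk⟩
  have hq : IsPGroup p (↥D ⧸ K') := fun z => by
    obtain ⟨d, rfl⟩ := QuotientGroup.mk_surjective z
    obtain ⟨n, hn⟩ := h d d.2
    exact ⟨n, by rw [← QuotientGroup.mk_pow, QuotientGroup.eq_one_iff]; simpa [hK', Subgroup.mem_subgroupOf] using hn⟩
  obtain ⟨n, hn⟩ := IsPGroup.iff_card.1 hq
  have htop := Transfer.sup_eq_top_of_index P.not_dvd_index (N := K') hn
  intro d hd
  obtain ⟨s, hs, k, hk, e⟩ :=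
    Subgroup.mem_sup_of_normal_right.1 (htop.ge (Subgroup.mem_top (⟨d, hd⟩ : D)))
  rw [hP] at hs
  exact ⟨s, hs, k, hk, (congrArg Subtype.val e).symm⟩

/-- `C_G(T) S = G` makes the `p'`-elements centralise `T`. -/
theorem mem_centralizer_of_sup_eq_top [Finite G] [Fact p.Prime] {C S : Subgroup G} [C.Normal]
    (hS : IsPGroup p S) (h : C ⊔ S = ⊤) {k : G} (hk : (orderOf k).Coprime p) : k ∈ C := by
  have hq : IsPGroup p (G ⧸ C) := by
    refine (hS.of_surjective ((QuotientGroup.mk' C).comp S.subtype) ?_)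
    intro z
    obtain ⟨g, rfl⟩ := QuotientGroup.mk'_surjective C z
    obtain ⟨c, hc, s, hs, rfl⟩ := Subgroup.mem_sup_of_normal_left.1 (h.ge (Subgroup.mem_top g))
    refine ⟨⟨s, hs⟩, ?_⟩
    simp [(QuotientGroup.eq_one_iff c).2 hc]
  obtain ⟨n, hn⟩ := hq (k : G ⧸ C)
  rw [← QuotientGroup.eq_one_iff, ← orderOf_eq_one_iff]
  exact Nat.eq_one_of_dvd_coprimes (hk.pow_right n) (orderOf_map_dvd (QuotientGroup.mk' C) k)
    (orderOf_dvd_of_pow_eq_one hn)

/-- The constrained case. -/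
theorem ctl_of_constrained [Finite G] [hp' : Fact p.Prime] (hp : p ≠ 2) (hst : Cfsg.IsNormalizerPStable p G)
    (S : Sylow p G) {T : Subgroup G} [hTn : T.Normal] (hT : IsPGroup p T)
    (hD : ∀ g ∈ (S : Subgroup G), (g : G ⧸ Subgroup.centralizer (T : Set G)) ∈
      Cfsg.pCore p (G ⧸ Subgroup.centralizer (T : Set G)) → g ∈ T) :
    ∀ g : G, ∃ n ∈ Subgroup.normalizer ((Cfsg.centerThompsonAOf (S : Subgroup G) : Subgroup G) : Set G),
      ∃ k ∈ Cfsg.pPrimeCore p G, g = n * k := by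
  classical
  set C := Subgroup.centralizer (T : Set G) with hC
  haveI hCn : C.Normal := inferInstance
  set K := Cfsg.pPrimeCore p G with hK
  let q := QuotientGroup.mk' K
  have hq : Function.Surjective q := QuotientGroup.mk'_surjective K
  have hker : (Nat.card q.ker).Coprime p := by rw [QuotientGroup.ker_mk']; exact Cores.coprime_card_pPrimeCore p
  have hTS : T ≤ (S : Subgroup G) := (Cores.le_pCore hTn hT).trans (Cores.pCore_le_sylow S)
  have hTK : Disjoint T K := by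
    refine (disjoint_iff).2 ((Subgroup.eq_bot_iff_forall _).2 fun z hz => ?_)
    obtain ⟨n, hn⟩ := IsPGroup.iff_card.1 hT
    exact Coprime.eq_one_of_mem_of_mem
      (by rw [hn]; exact (Cores.coprime_card_pPrimeCore p (G := G)).symm.pow_left n) hz.1 hz.2
  have hKC : K ≤ C := fun k hk => Subgroup.mem_centralizer_iff.2 fun z hz =>
    (Cores.pCore_pPrimeCore_commute (Cores.le_pCore hTn hT hz) hk).eq
  -- `C = (C ∩ T) K`
  have hCS : ∀ c ∈ C, c ∈ (S : Subgroup G) → c ∈ T := fun c hc hcS =>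
    hD c hcS (by rw [(QuotientGroup.eq_one_iff c).2 hc]; exact one_mem _)
  have hCle : ∀ c ∈ C, ∃ t ∈ T, ∃ k ∈ K, c = t * k := by
    let P : Sylow p C := (S.isPGroup'.comap_subtype (K := C)).toSylow fun hd =>
      S.not_dvd_index (hd.trans (Cores.relIndex_dvd_index_of_normal_right _ C))
    have hPmem : ∀ a : C, a ∈ (P : Subgroup C) ↔ (a : G) ∈ (S : Subgroup G) := fun a => Iff.rfl
    have hcen : Subgroup.normalizer ((P : Subgroup C) : Set C) ≤ Subgroup.centralizer ((P : Subgroup C) : Set C) := by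
      intro a _
      refine Subgroup.mem_centralizer_iff.2 fun b hb => Subtype.ext ?_
      exact Subgroup.mem_centralizer_iff.1 a.2 _ (hCS _ b.2 ((hPmem b).1 hb))
    have hcompl := MonoidHom.ker_transferSylow_isComplement' P hcen
    set K₀ := (MonoidHom.transferSylow P hcen).ker
    have hK₀ : (Nat.card K₀).Coprime p := by
      rw [← hcompl.index_eq_card]
      exact ((hp'.out).coprime_iff_not_dvd.2 P.not_dvd_index).symm
    have hK₀K : K₀.map C.subtype ≤ K := fun z hz =>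
      (Cores.pPrimeCore_map_subtype C p).le.trans inf_le_left
        (Subgroup.map_mono (Cores.le_pPrimeCore inferInstance hK₀) hz)
    intro c hc
    obtain ⟨k, hk, s, hs, e⟩ := Subgroup.mem_sup_of_normal_left.1
      (hcompl.sup_eq_top.ge (Subgroup.mem_top (⟨c, hc⟩ : C)))
    refine ⟨s, hCS _ s.2 ((hPmem s).1 hs), k, hK₀K ⟨k, hk, rfl⟩, ?_⟩
    have e' : (k : G) * (s : G) = c := congrArg Subtype.val e
    rw [← e']
    exact (Subgroup.mem_centralizer_iff.1 k.2 _ (hCS _ s.2 ((hPmem s).1 hs))).symm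
  set T' := T.map q with hT'
  have hT'le : T' ≤ Cfsg.pCore p (G ⧸ K) := Cores.le_pCore (hTn.map q hq) (hT.map q)
  have hc : Subgroup.centralizer (Cfsg.pCore p (G ⧸ K) : Set (G ⧸ K)) ≤ Cfsg.pCore p (G ⧸ K) := by
    intro y hy
    have hy' : y ∈ C.map q := by
      rw [hC, ← PLocal.centralizer_map_eq q hq hker hT]
      exact Subgroup.centralizer_le hT'le hy
    obtain ⟨c, hc, rfl⟩ := hy'
    obtain ⟨t, ht, k, hk, rfl⟩ := hCle c hc
    rw [map_mul, show q k = 1 from (QuotientGroup.eq_one_iff k).2 hk, mul_one]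
    exact hT'le ⟨t, ht, rfl⟩
  -- `O_p` of the quotient is the image of `T`
  set X := (Cfsg.pCore p (G ⧸ K)).comap q with hX
  haveI hpn : (Cfsg.pCore p (G ⧸ K)).Normal := Cores.pCore_normal p _
  have hXp : ∀ g ∈ X, ∃ n, g ^ p ^ n ∈ K := fun g hg => by
    obtain ⟨n, hn⟩ := Cores.isPGroup_pCore p _ ⟨q g, hg⟩
    have h1 := congrArg Subtype.val hn
    simp only [SubgroupClass.coe_pow, OneMemClass.coe_one, ← map_pow] at h1
    exact ⟨n, (QuotientGroup.eq_one_iff _).1 h1⟩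
  have hXC : ∀ g ∈ X, (g : G ⧸ C) ∈ Cfsg.pCore p (G ⧸ C) := by
    intro g hg
    refine Cores.le_pCore (N := X.map (QuotientGroup.mk' C))
      ((inferInstance : X.Normal).map _ (QuotientGroup.mk'_surjective C)) ?_ ⟨g, hg, rfl⟩
    rintro ⟨_, x, hx, rfl⟩
    obtain ⟨n, hn⟩ := hXp x hx
    exact ⟨n, Subtype.ext ((map_pow (QuotientGroup.mk' C) x _).symm.trans ((QuotientGroup.eq_one_iff _).2 (hKC hn)))⟩
  have hSX : Fusion.IsSylowIn p ((S : Subgroup G) ⊓ X) X :=
    Fusion.IsSylowIn.inf_normal (A := ⊤) ⟨le_top, S.isPGroup', fun D h1 _ h3 => S.is_maximal' h3 h1⟩ le_top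
      fun a _ n hn => (inferInstance : X.Normal).conj_mem n hn a
  have hOp : Cfsg.pCore p (G ⧸ K) ≤ T' := by
    intro y hy
    obtain ⟨g, rfl⟩ := hq y
    obtain ⟨s, hs, k, hk, rfl⟩ := le_inf_sup (D := X) (K := K) (fun d _ k hk => (inferInstance : K.Normal).conj_mem k hk d)
      (fun k hk => by
        show q k ∈ Cfsg.pCore p (G ⧸ K)
        rw [show q k = 1 from (QuotientGroup.eq_one_iff k).2 hk]; exact one_mem _) hSX hXp g hy
    rw [map_mul, show q k = 1 from (QuotientGroup.eq_one_iff k).2 hk, mul_one]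
    exact ⟨s, hD s hs.1 (hXC s hs.2), rfl⟩
  -- stability on normal p-subgroups
  have hst' : ∀ (P : Subgroup (G ⧸ K)) [P.Normal], IsPGroup p P → Cfsg.IsPStableOn p P := by
    intro P hPn hP a ha
    obtain ⟨g, rfl⟩ := hq a
    set P₀ := P.comap q ⊓ T with hP₀
    haveI : P₀.Normal := Subgroup.normal_inf_normal _ _
    have hPeq : P₀.map q = P := by
      refine le_antisymm (Subgroup.map_le_iff_le_comap.2 inf_le_left) fun y hy => ?_
      obtain ⟨t, ht, rfl⟩ := hOp (Cores.le_pCore hPn hP hy)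
      exact ⟨t, ⟨hy, ht⟩, rfl⟩
    have hquad : ⁅⁅P₀, Subgroup.zpowers g⁆, Subgroup.zpowers g⁆ = ⊥ := by
      refine le_bot_iff.1 ((le_inf ?_ ?_).trans hTK.le_bot)
      · exact (Subgroup.commutator_mono ((Subgroup.commutator_mono inf_le_right le_rfl).trans
          (Subgroup.commutator_le_left T _)) le_rfl).trans (Subgroup.commutator_le_left T _)
      · refine le_trans ((Subgroup.map_eq_bot_iff _).1 ?_) (QuotientGroup.ker_mk' K).le
        rw [Subgroup.map_commutator, Subgroup.map_commutator, hPeq, MonoidHom.map_zpowers]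
        exact ha
    have hN : Subgroup.normalizer (P₀ : Set G) = ⊤ := Subgroup.normalizer_eq_top_iff.2 inferInstance
    have key := hst P₀ (hT.to_le inf_le_right) g (hN ▸ Subgroup.mem_top g) hquad
    set N := Subgroup.normalizer (P₀ : Set G)
    have hle : (Subgroup.centralizer (P₀ : Set G)).subgroupOf N ≤
        (Subgroup.centralizer (P : Set (G ⧸ K))).comap (q.comp N.subtype) := by
      intro n hn
      refine Subgroup.mem_comap.2 (Subgroup.mem_centralizer_iff.2 fun v hv => ?_)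
      rw [SetLike.mem_coe, ← hPeq] at hv
      obtain ⟨v, hv, rfl⟩ := hv
      show q v * q (n : G) = q (n : G) * q v
      rw [← map_mul, ← map_mul, Subgroup.mem_centralizer_iff.1 (Subgroup.mem_subgroupOf.1 hn) v hv]
    let f := QuotientGroup.map _ _ (q.comp N.subtype) hle
    have hf : Function.Surjective f := by
      intro z
      obtain ⟨z, rfl⟩ := QuotientGroup.mk_surjective z
      obtain ⟨n, rfl⟩ := hq z
      exact ⟨((⟨n, hN ▸ Subgroup.mem_top n⟩ : N) : ↥N ⧸ _), rfl⟩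
    exact Cores.map_pCore_le f hf p ⟨_, key, rfl⟩
  have hn := PLocal.zj_normal hp PLocal.goodClass_abelian hc hst' (S.mapSurjective hq)
  rw [← centerThompsonAOf_eq_sInf, Sylow.coe_mapSurjective,
    ← map_centerThompsonAOf q (PLocal.injOn_of_pGroup q hker S.isPGroup')] at hn
  have heq := PLocal.normalizer_map_eq q hq hker
    (S.isPGroup'.to_le (centerThompsonAOf_le (S : Subgroup G)))
  rw [Subgroup.normalizer_eq_top_iff.2 hn] at heq
  intro g
  obtain ⟨n, hn', he⟩ := heq.le (Subgroup.mem_top (q g))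
  exact ⟨n, hn', n⁻¹ * g, (QuotientGroup.eq.1 he), by group⟩

theorem image_conj_inv (A : Set G) (x : G) :
    (fun a => x⁻¹ * a * x) '' A = (fun a => x⁻¹ * a * x⁻¹⁻¹) '' A := by simp

/-- The case `G = C_G(T) S` reduces to the quotient by `T`. -/
theorem exists_proper_control [Finite G] [hp' : Fact p.Prime] (S : Sylow p G) {T : Subgroup G} [hTn : T.Normal]
    (hT : IsPGroup p T) (hT1 : ∀ N : Subgroup G, N.Normal → IsPGroup p N → N ≤ T)
    (hST : ¬ (S : Subgroup G) ≤ T) (hpc : ∀ k : G, (orderOf k).Coprime p → ∀ z ∈ T, Commute k z)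
    (hbar : Ctl p (G ⧸ T)) :
    ∃ M : Subgroup G, (S : Subgroup G) ≤ M ∧ M ≠ ⊤ ∧ ∀ (A : Set G) (g : G), A ⊆ (S : Subgroup G) →
      (fun a => g * a * g⁻¹) '' A ⊆ (S : Subgroup G) → ∃ m ∈ M, ∀ a ∈ A, m * a * m⁻¹ = g * a * g⁻¹ := by
  classical
  let π := QuotientGroup.mk' T
  have hπ : Function.Surjective π := QuotientGroup.mk'_surjective T
  set S' := S.mapSurjective hπ
  set V := Cfsg.centerThompsonAOf (S' : Subgroup (G ⧸ T)) with hV
  set M := (Subgroup.normalizer (V : Set (G ⧸ T))).comap π with hM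
  have hWf := isConjugacyFunctor_centerThompsonAOf (G := G ⧸ T) (p := p)
  have hTS : T ≤ (S : Subgroup G) := (Cores.le_pCore hTn hT).trans (Cores.pCore_le_sylow S)
  have hV1 : V ≠ ⊥ := (hWf _ S'.isPGroup').2.1 fun he => hST (by
    rw [Sylow.coe_mapSurjective, Subgroup.map_eq_bot_iff, QuotientGroup.ker_mk'] at he
    exact he)
  have hSM : (S : Subgroup G) ≤ M := fun s hs =>
    AlperinFamily.le_normalizer_functor hWf S'.isPGroup' ⟨s, hs, rfl⟩
  refine ⟨M, hSM, fun he => hV1 ?_, ?_⟩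
  · have hn : V.Normal := Subgroup.normalizer_eq_top_iff.1 (top_le_iff.1 fun z _ => by
      obtain ⟨z, rfl⟩ := hπ z
      exact (he.ge (Subgroup.mem_top z) : z ∈ M))
    have h := hT1 (V.comap π) inferInstance
      ((S'.isPGroup'.to_le (centerThompsonAOf_le _)).comap_of_ker_isPGroup π (by
        rw [QuotientGroup.ker_mk']; exact hT))
    refine (Subgroup.eq_bot_iff_forall _).2 fun z hz => ?_
    obtain ⟨z, rfl⟩ := hπ z
    exact (QuotientGroup.eq_one_iff z).2 (h hz)
  -- one step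
  have step : ∀ U : Subgroup G, U ≤ (S : Subgroup G) → AlperinFamily.FN p (S : Subgroup G) U → T ≤ U →
      ∀ x ∈ Subgroup.normalizer (U : Set G), ∃ m ∈ M, ∀ a ∈ U, m⁻¹ * a * m = x⁻¹ * a * x := by
    intro U hUS hfn hTU x hx
    obtain ⟨n', hn', hne⟩ := hbar S' (π '' U) (π x)⁻¹
      (by rintro _ ⟨a, ha, rfl⟩; exact ⟨a, hUS ha, rfl⟩)
      (by
        rintro _ ⟨_, ⟨a, ha, rfl⟩, rfl⟩
        refine ⟨x⁻¹ * a * x, hUS ((Subgroup.mem_normalizer_iff''.1 hx a).1 ha), ?_⟩
        simp)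
    obtain ⟨n, rfl⟩ := hπ n'
    have hcong : ∀ a ∈ U, (x⁻¹ * a * x)⁻¹ * (n * a * n⁻¹) ∈ T := fun a ha => by
      rw [← QuotientGroup.eq_one_iff]
      show π ((x⁻¹ * a * x)⁻¹ * (n * a * n⁻¹)) = 1
      have h := hne (π a) ⟨a, ha, rfl⟩
      simp only [map_mul, map_inv]
      rw [h]
      group
    have hnU : n ∈ Subgroup.normalizer (U : Set G) := Coprime.mem_normalizer_of_forall fun a ha => by
      have h1 := (Subgroup.mem_normalizer_iff''.1 hx a).1 ha
      have h2 := U.mul_mem h1 (hTU (hcong a ha))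
      rwa [mul_inv_cancel_left] at h2
    -- `x n` stabilises `U` modulo `T`
    set D : Subgroup G := Subgroup.normalizer (U : Set G) ⊓
      (Subgroup.centralizer ((U.map π : Subgroup (G ⧸ T)) : Set (G ⧸ T))).comap π with hD
    have hxn : x * n ∈ D := by
      refine ⟨mul_mem hx hnU, Subgroup.mem_comap.2 (Subgroup.mem_centralizer_iff.2 ?_)⟩
      rintro _ ⟨a, ha, rfl⟩
      have h := hne (π a) ⟨a, ha, rfl⟩
      rw [inv_inv] at h
      calc π a * π (x * n) = π x * ((π x)⁻¹ * π a * π x) * π n := by rw [map_mul]; group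
        _ = π x * (π n * π a * (π n)⁻¹) * π n := by rw [← h]
        _ = π (x * n) * π a := by rw [map_mul]; group
    have hDn : ∀ z ∈ Subgroup.normalizer (U : Set G), ∀ d ∈ D, z * d * z⁻¹ ∈ D := by
      intro z hz d hd
      refine ⟨(Subgroup.normalizer (U : Set G)).mul_mem ((Subgroup.normalizer (U : Set G)).mul_mem hz hd.1) ((Subgroup.normalizer (U : Set G)).inv_mem hz), Subgroup.mem_comap.2 (Subgroup.mem_centralizer_iff.2 ?_)⟩
      rintro _ ⟨a, ha, rfl⟩
      have h := Subgroup.mem_centralizer_iff.1 hd.2 (π (z⁻¹ * a * z))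
        ⟨_, (Subgroup.mem_normalizer_iff''.1 hz a).1 ha, rfl⟩
      calc π a * π (z * d * z⁻¹) = π z * (π (z⁻¹ * a * z) * π d) * (π z)⁻¹ := by
            simp only [map_mul, map_inv]; group
        _ = π z * (π d * π (z⁻¹ * a * z)) * (π z)⁻¹ := by rw [h]
        _ = π (z * d * z⁻¹) * π a := by simp only [map_mul, map_inv]; group
    obtain ⟨s, hs, c, hc, he⟩ := le_inf_sup (D := D) (K := Subgroup.centralizer (U : Set G))
      (fun d hd k hk => Subgroup.mem_centralizer_iff.2 fun a ha => by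
        have h := Subgroup.mem_centralizer_iff.1 hk _ ((Subgroup.mem_normalizer_iff''.1 hd.1 a).1 ha)
        calc a * (d * k * d⁻¹) = d * ((d⁻¹ * a * d) * k) * d⁻¹ := by group
          _ = d * k * d⁻¹ * a := by rw [h]; group)
      (fun k hk => ⟨Subgroup.centralizer_le_normalizer _ hk, Subgroup.mem_comap.2 (Subgroup.mem_centralizer_iff.2 (by
        rintro _ ⟨a, ha, rfl⟩
        rw [← map_mul, ← map_mul, Subgroup.mem_centralizer_iff.1 hk a ha]))⟩)
      ((AlperinFamily.isSylowIn_of_fn S.isPGroup' hfn).inf_normal inf_le_left hDn)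
      (fun d hd => by
        obtain ⟨k, hk⟩ := exists_pow_coprime (p := p) d
        refine ⟨k, Subgroup.mem_centralizer_iff.2 fun a ha => ?_⟩
        have hd' := D.pow_mem hd (p ^ k)
        set e := d ^ p ^ k
        have hmem : a⁻¹ * (e * a * e⁻¹) ∈ T := by
          rw [← QuotientGroup.eq_one_iff]
          show π (a⁻¹ * (e * a * e⁻¹)) = 1
          simp only [map_mul, map_inv]
          rw [← Subgroup.mem_centralizer_iff.1 hd'.2 (π a) ⟨a, ha, rfl⟩]
          group
        obtain ⟨j, hj⟩ := hT ⟨_, hmem⟩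
        have h1 := eq_one_of_stab (k := e) (q := a) (d := a⁻¹ * (e * a * e⁻¹)) (by group)
          (hpc e hk _ hmem) hk (congrArg Subtype.val hj)
        rw [inv_mul_eq_one] at h1
        exact (mul_inv_eq_iff_eq_mul.1 h1.symm).symm)
      _ hxn
    have hxe : x = s * n⁻¹ * (n * c * n⁻¹) := by
      calc x = x * n * n⁻¹ := by group
        _ = _ := by rw [he]; group
    refine ⟨s * n⁻¹, M.mul_mem (hSM hs.1.1) (M.inv_mem hn'), fun a ha => ?_⟩
    have hsn : s * n⁻¹ ∈ Subgroup.normalizer (U : Set G) := mul_mem hs.2.1 (inv_mem hnU)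
    have hm := (Subgroup.mem_normalizer_iff''.1 hsn a).1 ha
    set b := (s * n⁻¹)⁻¹ * a * (s * n⁻¹) with hb
    have h := Subgroup.mem_centralizer_iff.1 hc _ ((Subgroup.mem_normalizer_iff''.1 hnU b).1 hm)
    rw [hxe]
    calc b = (n * c * n⁻¹)⁻¹ * (n * (c * (n⁻¹ * b * n)) * n⁻¹) := by group
      _ = (n * c * n⁻¹)⁻¹ * b * (n * c * n⁻¹) := by rw [← h]; group
      _ = _ := by rw [hb]; group
  -- chains
  have steps : ∀ (A : Set G) (g : G), AlperinFamily.Steps
      {U : Subgroup G | U ≤ (S : Subgroup G) ∧ AlperinFamily.FN p (S : Subgroup G) U} A g →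
      (T : Set G) ⊆ A → ∃ m ∈ M, ∀ a ∈ A, m⁻¹ * a * m = g⁻¹ * a * g := by
    intro A g h
    induction h with
    | nil A => exact fun _ => ⟨1, M.one_mem, fun a _ => rfl⟩
    | @cons A g U x hU hx hA _ ih =>
      intro hTA
      obtain ⟨m₁, hm₁, he₁⟩ := step U hU.1 hU.2 (fun z hz => hA (hTA hz)) x hx
      obtain ⟨m₂, hm₂, he₂⟩ := ih (fun z hz =>
        ⟨x * z * x⁻¹, hTA (hTn.conj_mem z hz x), by group⟩)
      refine ⟨m₁ * m₂, M.mul_mem hm₁ hm₂, fun a ha => ?_⟩
      calc (m₁ * m₂)⁻¹ * a * (m₁ * m₂) = m₂⁻¹ * (m₁⁻¹ * a * m₁) * m₂ := by group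
        _ = m₂⁻¹ * (x⁻¹ * a * x) * m₂ := by rw [he₁ a (hA ha)]
        _ = g⁻¹ * (x⁻¹ * a * x) * g := he₂ _ ⟨a, ha, rfl⟩
        _ = (x * g)⁻¹ * a * (x * g) := by group
  intro A g hA hgA
  obtain ⟨m, hm, he⟩ := steps (A ∪ T) g⁻¹
    (AlperinFamily.steps_of_reps (p := p) S (fun U hU => hU.1) (fun U hU => by
      obtain ⟨h, hh1, hh2⟩ := AlperinFamily.fn_reps S U hU
      exact ⟨_, ⟨(Subgroup.map_mono (le_inf hU Subgroup.le_normalizer)).trans hh1, hh2⟩, ⟨h, rfl⟩, hh2⟩)
      (A ∪ T) g⁻¹ (Set.union_subset hA hTS) (by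
        rintro _ ⟨a, ha, rfl⟩
        simp only [inv_inv]
        rcases ha with ha | ha
        · exact hgA ⟨a, ha, rfl⟩
        · exact hTS (hTn.conj_mem a ha g)))
    Set.subset_union_right
  refine ⟨m⁻¹, M.inv_mem hm, fun a ha => ?_⟩
  rw [inv_inv, he a (Or.inl ha), inv_inv]

/-- **Glauberman**: `N(Z(J(S)))` controls strong fusion in a stable group, p odd. -/
theorem ctl [Fact p.Prime] (hp : p ≠ 2) :
    ∀ (G : Type u) [Group G] [Finite G], Cfsg.IsNormalizerPStable p G → Ctl p G := by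
  intro G _ _ hst
  induction hn : Nat.card G using Nat.strong_induction_on generalizing G with
  | _ n IH =>
  subst hn
  intro S A g hA hgA
  classical
  have hsub : ∀ H : Subgroup G, H ≠ ⊤ → Ctl p ↥H := fun H hH =>
    IH _ (Set.ncard_lt_ncard (lt_top_iff_ne_top.2 hH : H < ⊤) (Set.toFinite _) |>.trans_eq (by simp))
      ↥H (S3836.result hst H) rfl
  have hW := isConjugacyFunctor_centerThompsonAOf (G := G) (p := p)
  have hStop : Fusion.IsSylowIn p (S : Subgroup G) ⊤ :=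
    ⟨le_top, S.isPGroup', fun D h1 _ h3 => S.is_maximal' h3 h1⟩
  set W := Cfsg.centerThompsonAOf (S : Subgroup G)
  -- control inside a subgroup containing `S`
  have hin : ∀ H : Subgroup G, H ≠ ⊤ → (S : Subgroup G) ≤ H → ∀ (B : Set G) (h : G), h ∈ H →
      B ⊆ (S : Subgroup G) → (fun a => h * a * h⁻¹) '' B ⊆ (S : Subgroup G) →
      ∃ m ∈ Subgroup.normalizer (W : Set G), ∀ a ∈ B, m * a * m⁻¹ = h * a * h⁻¹ := fun H hH hSH B h hh hB hhB =>
    let ⟨m, hm, he⟩ := ctl_subgroup (hsub H hH) (hStop.mono hSH le_top) hh hB hhB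
    ⟨m, hm.2, he⟩
  set T := Cfsg.pCore p G with hTdef
  haveI hTn : T.Normal := Cores.pCore_normal p G
  have hT : IsPGroup p T := Cores.isPGroup_pCore p G
  by_cases hT0 : T = ⊥
  · have hloc : ∀ U : Subgroup G, U ≤ (S : Subgroup G) → U ≠ ⊥ → AlperinFamily.FN p (S : Subgroup G) U →
        Cfsg.FamilyControlsStrongFusionIn p {fun H : Subgroup G => Cfsg.centerThompsonAOf H}
          (Subgroup.normalizer (U : Set G)) := by
      intro U hU hU1 hfn
      refine AlperinFamily.controlsStrongFusionIn_iff_family.1 ⟨_, inf_le_right, S.isPGroup'.to_inf_left, hfn,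
        fun B h hh hB hhB => ?_⟩
      refine ctl_subgroup (hsub _ fun he => hU1 ?_) (AlperinFamily.isSylowIn_of_fn S.isPGroup' hfn) hh hB hhB
      exact le_bot_iff.1 (hT0 ▸ Cores.le_pCore (Subgroup.normalizer_eq_top_iff.1 he) (S.isPGroup'.to_le hU))
    obtain ⟨R, hR, hRp, hRd, hctl⟩ := AlperinFamily.controlsStrongFusionIn_iff_family.2
      (AlperinFamily.familyControlsStrongFusionIn_top S (by rintro _ rfl; exact hW) _ (fun _ h => h)
        (AlperinFamily.fn_reps S) hloc)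
    obtain ⟨d, -, hd⟩ := AlperinFamily.exists_conj_sylowish (H := ⊤) (R := (S : Subgroup G)) hR hRp hRd le_top
      S.isPGroup' (by rw [Subgroup.relIndex_top_right]; exact S.not_dvd_index)
    obtain ⟨m, hm, he⟩ := hctl ((fun a => d⁻¹ * a * d) '' A) (d⁻¹ * g * d) trivial
      (by rintro _ ⟨a, ha, rfl⟩; exact AlperinFamily.mem_cj.1 (hd.ge (hA ha)))
      (by
        rintro _ ⟨_, ⟨a, ha, rfl⟩, rfl⟩
        have := AlperinFamily.mem_cj.1 (hd.ge (hgA ⟨a, ha, rfl⟩))
        simp only [SetLike.mem_coe]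
        convert this using 1
        group)
    refine ⟨d * m * d⁻¹, ?_, fun a ha => ?_⟩
    · have h1 := AlperinFamily.conj_mem_cj d hm.2
      rw [AlperinFamily.cj_normalizer, ← AlperinFamily.functor_cj hW hRp, hd] at h1
      exact h1
    · have h1 := congrArg (fun z => d * z * d⁻¹) (he _ ⟨a, ha, rfl⟩)
      convert h1 using 1 <;> group
  set C := Subgroup.centralizer (T : Set G) with hC
  haveI hCn : C.Normal := inferInstance
  haveI hpn : (Cfsg.pCore p (G ⧸ C)).Normal := Cores.pCore_normal p _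
  set D := (Cfsg.pCore p (G ⧸ C)).comap (QuotientGroup.mk' C) with hDdef
  have hTS : T ≤ (S : Subgroup G) := Cores.pCore_le_sylow S
  by_cases hcase : (S : Subgroup G) ⊓ D ≤ T
  · obtain ⟨m, hm, k, hk, rfl⟩ := ctl_of_constrained hp hst S hT (fun z hz hzD => hcase ⟨hz, hzD⟩) g
    set N := Subgroup.normalizer (W : Set G)
    have hSN : (S : Subgroup G) ≤ N := AlperinFamily.le_normalizer_functor hW S.isPGroup'
    set K := Cfsg.pPrimeCore p G with hKdef
    set P := Subgroup.closure A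
    have hPS : P ≤ (S : Subgroup G) := (Subgroup.closure_le _).2 hA
    have hPN : P ≤ N := hPS.trans hSN
    have hkN : ∀ z ∈ K ⊓ N, ∀ y ∈ N, y * z * y⁻¹ ∈ K ⊓ N := fun z hz y hy =>
      ⟨(inferInstance : K.Normal).conj_mem z hz.1 y, N.mul_mem (N.mul_mem hy hz.2) (N.inv_mem hy)⟩
    have hPn : P ≤ Subgroup.normalizer ((K ⊓ N : Subgroup G) : Set G) := fun y hy =>
      Coprime.mem_normalizer_of_forall fun z hz => hkN z hz y (hPN hy)
    set M := P ⊔ (K ⊓ N) with hMdef
    have hMmul : ∀ z ∈ M, ∃ y ∈ P, ∃ o ∈ K ⊓ N, y * o = z := fun z hz => by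
      have h : z ∈ ((P : Set G) * ((K ⊓ N : Subgroup G) : Set G)) := by
        rw [← Subgroup.coe_mul_of_left_le_normalizer_right _ _ hPn]; exact hz
      exact Set.mem_mul.1 h
    have hdis : ∀ z ∈ K, ∀ Q : Subgroup G, IsPGroup p Q → z ∈ Q → z = 1 := fun z hzK Q hQ hzQ => by
      obtain ⟨j, hj⟩ := IsPGroup.iff_card.1 hQ
      exact Coprime.eq_one_of_mem_of_mem
        (by rw [hj]; exact (Cores.coprime_card_pPrimeCore p (G := G)).symm.pow_left j) hzQ hzK
    have hsyl : Fusion.IsSylowIn p P M := ⟨le_sup_left, S.isPGroup'.to_le hPS, fun Q hPQ hQM hQ => by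
      refine le_antisymm (fun z hz => ?_) hPQ
      obtain ⟨y, hy, o, ho, rfl⟩ := hMmul z (hQM hz)
      have hoQ : o ∈ Q := (Q.mul_mem_cancel_left (hPQ hy)).1 hz
      rw [hdis o ho.1 Q hQ hoQ, mul_one]
      exact hy⟩
    have hb : ∀ a ∈ A, k * a * k⁻¹ ∈ M := fun a ha => by
      have h1 : m⁻¹ * (m * k * a * (m * k)⁻¹) * m ∈ N :=
        N.mul_mem (N.mul_mem (N.inv_mem hm) (hSN (hgA ⟨a, ha, rfl⟩))) hm
      have h2 : k * a * k⁻¹ ∈ N := by convert h1 using 1; group
      have h3 : a⁻¹ * (k * a * k⁻¹) ∈ K ⊓ N := by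
        refine ⟨?_, N.mul_mem (N.inv_mem (hSN (hA ha))) h2⟩
        have h := (inferInstance : K.Normal).conj_mem k hk a⁻¹
        rw [inv_inv] at h
        simpa [mul_assoc] using K.mul_mem h (K.inv_mem hk)
      rw [show k * a * k⁻¹ = a * (a⁻¹ * (k * a * k⁻¹)) by group]
      exact M.mul_mem (Subgroup.mem_sup_left (Subgroup.subset_closure ha)) (Subgroup.mem_sup_right h3)
    have hQM : P.map (MulAut.conj k).toMonoidHom ≤ M := by
      rw [MonoidHom.map_closure, Subgroup.closure_le]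
      rintro _ ⟨a, ha, rfl⟩
      exact hb a ha
    obtain ⟨z, hz, hzc⟩ := hsyl.exists_conj_le ((S.isPGroup'.to_le hPS).map _) hQM
    obtain ⟨y, hy, o, ho, rfl⟩ := hMmul z hz
    refine ⟨m * o⁻¹, N.mul_mem hm (N.inv_mem ho.2), fun a ha => ?_⟩
    have h1 := hzc _ ⟨a, Subgroup.subset_closure ha, rfl⟩
    have h2 : (o * k) * a * (o * k)⁻¹ ∈ P := by
      have h := P.mul_mem (P.mul_mem (P.inv_mem hy) h1) hy
      simpa [mul_assoc] using h
    have h3 : (o * k) * a * (o * k)⁻¹ * a⁻¹ = 1 := by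
      refine hdis _ ?_ P (S.isPGroup'.to_le hPS) (P.mul_mem h2 (P.inv_mem (Subgroup.subset_closure ha)))
      have hok : o * k ∈ K := K.mul_mem ho.1 hk
      have h := (inferInstance : K.Normal).conj_mem _ (K.inv_mem hok) a
      simpa [mul_assoc] using K.mul_mem hok h
    rw [mul_inv_eq_one] at h3
    calc m * o⁻¹ * a * (m * o⁻¹)⁻¹ = m * o⁻¹ * ((o * k) * a * (o * k)⁻¹) * (m * o⁻¹)⁻¹ := by rw [h3]
      _ = m * k * a * (m * k)⁻¹ := by group
  set Y := (S : Subgroup G) ⊓ D with hY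
  by_cases hCS : C ⊔ (S : Subgroup G) = ⊤
  · have hST : ¬ (S : Subgroup G) ≤ T := fun h => hcase (inf_le_left.trans h)
    have hpc : ∀ k : G, (orderOf k).Coprime p → ∀ z ∈ T, Commute k z := fun k hk z hz =>
      (Subgroup.mem_centralizer_iff.1 (mem_centralizer_of_sup_eq_top S.isPGroup' hCS hk) z hz).symm
    have hbar : Ctl p (G ⧸ T) := IH _ (by
        have h1 : 1 < Nat.card T :=
          Finite.one_lt_card_iff_nontrivial.2 ((Subgroup.nontrivial_iff_ne_bot T).2 hT0)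
        rw [Subgroup.card_eq_card_quotient_mul_card_subgroup T]
        exact lt_mul_of_one_lt_right Nat.card_pos h1)
      (G ⧸ T) (isNormalizerPStable_quotient hp hst T hT hpc) rfl
    obtain ⟨M, hSM, hM, hctl⟩ := exists_proper_control S hT (fun N h1 h2 => Cores.le_pCore h1 h2) hST hpc hbar
    obtain ⟨x, hx, hxe⟩ := hctl A g hA hgA
    obtain ⟨m, hm, he⟩ := hin M hM hSM A x hx hA (by
      rintro _ ⟨a, ha, rfl⟩
      show x * a * x⁻¹ ∈ (S : Subgroup G)
      rw [hxe a ha]; exact hgA ⟨a, ha, rfl⟩)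
    exact ⟨m, hm, fun a ha => (he a ha).trans (hxe a ha)⟩
  set M := Subgroup.normalizer (Y : Set G)
  have hSM : (S : Subgroup G) ≤ M := fun s hs => Coprime.mem_normalizer_of_forall fun z hz =>
    ⟨(S : Subgroup G).mul_mem ((S : Subgroup G).mul_mem hs hz.1) ((S : Subgroup G).inv_mem hs),
      (inferInstance : D.Normal).conj_mem z hz.2 s⟩
  have hM : M ≠ ⊤ := fun he =>
    hcase (Cores.le_pCore (Subgroup.normalizer_eq_top_iff.1 he) S.isPGroup'.to_inf_left)
  have hYD : Fusion.IsSylowIn p Y D :=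
    hStop.inf_normal le_top fun a _ z hz => (inferInstance : D.Normal).conj_mem z hz a
  have hfr : ∀ z : G, ∃ x ∈ M, ∃ d ∈ D, z = x * d := fun z => by
    obtain ⟨d, hd, hdY⟩ := hYD.exists_conj_le (hYD.2.1.map (MulAut.conj z).toMonoidHom)
      (by rintro _ ⟨y, hy, rfl⟩; exact (inferInstance : D.Normal).conj_mem y hy.2 z)
    refine ⟨d * z, Coprime.mem_normalizer_of_forall fun y hy => ?_, z⁻¹ * d⁻¹ * z, ?_, by group⟩
    · have := hdY _ ⟨y, hy, rfl⟩
      simpa [mul_assoc] using this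
    · simpa using (inferInstance : D.Normal).conj_mem _ (D.inv_mem hd) z⁻¹
  have hDC : ∀ d ∈ D, ∃ y ∈ Y, ∃ c ∈ C, d = y * c :=
    le_inf_sup (fun d _ c hc => hCn.conj_mem c hc d)
      (fun c hc => by
        show (c : G ⧸ C) ∈ Cfsg.pCore p (G ⧸ C)
        rw [(QuotientGroup.eq_one_iff c).2 hc]; exact one_mem _)
      hYD (fun d hd => by
        obtain ⟨j, hj⟩ := Cores.isPGroup_pCore p _ ⟨(d : G ⧸ C), hd⟩
        have h1 := congrArg Subtype.val hj
        simp only [SubgroupClass.coe_pow, OneMemClass.coe_one, ← QuotientGroup.mk_pow] at h1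
        exact ⟨j, (QuotientGroup.eq_one_iff _).1 h1⟩)
  obtain ⟨x₀, hx₀, d, hd, rfl⟩ := hfr g
  obtain ⟨y, hy, c, hc, rfl⟩ := hDC d hd
  set x := x₀ * y
  have hx : x ∈ M := M.mul_mem hx₀ (hSM hy.1)
  set H := C ⊔ (S : Subgroup G)
  have hcH : c ∈ H := Subgroup.mem_sup_left hc
  set R' := (((S : Subgroup G).map (MulAut.conj x⁻¹).toMonoidHom) ⊓ H : Subgroup G)
  have hR'p : IsPGroup p R' := (S.isPGroup'.map _).to_inf_left
  have hR'le : R' ≤ M ⊓ H := by
    refine le_inf (inf_le_left.trans ?_) inf_le_right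
    rintro _ ⟨s, hs, rfl⟩
    exact M.mul_mem (M.mul_mem (M.inv_mem hx) (hSM hs)) (by simpa using hx)
  obtain ⟨e, he, heS⟩ := (hStop.mono (le_inf hSM le_sup_right) le_top :
    Fusion.IsSylowIn p (S : Subgroup G) (M ⊓ H)).exists_conj_le hR'p hR'le
  have hmem : ∀ a ∈ A, c * a * c⁻¹ ∈ R' := fun a ha => by
    refine ⟨?_, H.mul_mem (H.mul_mem hcH (Subgroup.mem_sup_right (hA ha))) (H.inv_mem hcH)⟩
    refine ⟨_, hgA ⟨a, ha, rfl⟩, ?_⟩
    simp [x, mul_assoc]
  obtain ⟨m₁, hm₁, he₁⟩ := hin H hCS le_sup_right A (e * c) (H.mul_mem he.2 hcH) hA (by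
    rintro _ ⟨a, ha, rfl⟩
    have := heS _ (hmem a ha)
    simp only [SetLike.mem_coe] at this ⊢
    convert this using 1
    group)
  obtain ⟨m₂, hm₂, he₂⟩ := hin M hM hSM ((fun a => e * c * a * (e * c)⁻¹) '' A) (x * e⁻¹)
    (M.mul_mem hx (M.inv_mem he.1))
    (by
      rintro _ ⟨a, ha, rfl⟩
      have := heS _ (hmem a ha)
      simp only [SetLike.mem_coe] at this ⊢
      convert this using 1
      group)
    (by
      rintro _ ⟨_, ⟨a, ha, rfl⟩, rfl⟩
      have := hgA ⟨a, ha, rfl⟩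
      simpa [x, mul_assoc] using this)
  refine ⟨m₂ * m₁, Subgroup.mul_mem _ hm₂ hm₁, fun a ha => ?_⟩
  calc m₂ * m₁ * a * (m₂ * m₁)⁻¹ = m₂ * (m₁ * a * m₁⁻¹) * m₂⁻¹ := by group
    _ = m₂ * (e * c * a * (e * c)⁻¹) * m₂⁻¹ := by rw [he₁ a ha]
    _ = x * e⁻¹ * (e * c * a * (e * c)⁻¹) * (x * e⁻¹)⁻¹ := he₂ _ ⟨a, ha, rfl⟩
    _ = _ := by simp only [x]; group

end Cfsg.Agent.PStab
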