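/-
Glauberman: in a group stable in the normalizer form, `N(F(D))` controls strong fusion for a strongly
closed `D` and a functor `F` which is normal in constrained groups stable on normal p-subgroups (p odd).

* `CtlD`, `ctlD` : control of strong fusion by `N(F(D))`
* `fusion_of_factor` : absorbing a normal p'-subgroup
* `ctlD_centerThompsonAOf`, `ctlD_omegaCenterThompson`
-/
import Cfsg.Agent.Lib.PStab.ZJControl
import Cfsg.Agent.Lib.PLocal.ClosedFactor
import Cfsg.Agent.Lib.PGroup.Basic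
import Cfsg.Agent.S1250

set_option autoImplicit false

namespace Cfsg.Agent.PStab

open Cfsg
open scoped commutatorElement Pointwise

universe u

variable {G : Type u} [Group G] {p : ℕ}

/-- The functors handled. -/
structure GoodFunctor (p : ℕ) (F : ∀ {X : Type u} [Group X], Subgroup X → Subgroup X) : Prop where
  map : ∀ {X Y : Type u} [Group X] [Group Y] (f : X →* Y) (K : Subgroup X), Set.InjOn f K →
    (F K).map f = F (K.map f)
  le : ∀ {X : Type u} [Group X] (K : Subgroup X), F K ≤ K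
  ne_bot : ∀ {X : Type u} [Group X] [Finite X] (K : Subgroup X), IsPGroup p K → K ≠ ⊥ → F K ≠ ⊥
  normal : ∀ {X : Type u} [Group X] [Finite X] (S : Sylow p X) (D : Subgroup X),
    Cfsg.IsStronglyClosed D (S : Subgroup X) →
    Subgroup.centralizer (Cfsg.pCore p X : Set X) ≤ Cfsg.pCore p X →
    (∀ (P : Subgroup X) [P.Normal], IsPGroup p P → Cfsg.IsPStableOn p P) → (F D).Normal

variable {F : ∀ {X : Type u} [Group X], Subgroup X → Subgroup X}

theorem GoodFunctor.le_normalizer (hF : GoodFunctor p @F) {S D : Subgroup G} (hD : Cfsg.IsStronglyClosed D S) :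
    S ≤ Subgroup.normalizer (F D : Set G) := by
  intro s hs
  have h := PLocal.mem_normalizer_iff_map_eq.1 (PLocal.sylow_le_normalizer_of_closed hD hs)
  rw [PLocal.mem_normalizer_iff_map_eq, hF.map _ _ (MulAut.conj s).injective.injOn, h]

/-- `N(F(D))` controls strong fusion. -/
def CtlD (p : ℕ) (F : ∀ {X : Type u} [Group X], Subgroup X → Subgroup X) (G : Type u) [Group G] : Prop :=
  ∀ (S : Sylow p G) (D : Subgroup G), Cfsg.IsStronglyClosed D (S : Subgroup G) →
    ∀ (A : Set G) (g : G), A ⊆ (S : Subgroup G) → (fun a => g * a * g⁻¹) '' A ⊆ (S : Subgroup G) →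
    ∃ n ∈ Subgroup.normalizer ((F D : Subgroup G) : Set G), ∀ a ∈ A, n * a * n⁻¹ = g * a * g⁻¹

/-- Control inside a subgroup, in terms of the whole group. -/
theorem ctlD_subgroup [Finite G] [Fact p.Prime] (hF : GoodFunctor p @F) {H : Subgroup G} (h : CtlD p @F ↥H)
    {R D : Subgroup G} (hR : Fusion.IsSylowIn p R H) (hD : Cfsg.IsStronglyClosed D R) {A : Set G} {g : G}
    (hg : g ∈ H) (hA : A ⊆ R) (hgA : (fun a => g * a * g⁻¹) '' A ⊆ R) :
    ∃ n ∈ H ⊓ Subgroup.normalizer ((F D : Subgroup G) : Set G), ∀ a ∈ A, n * a * n⁻¹ = g * a * g⁻¹ := by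
  obtain ⟨P, hP⟩ := (Fusion.isSylowIn_iff_exists hR.1).1 hR
  have hD' : Cfsg.IsStronglyClosed (D.subgroupOf H) (P : Subgroup H) := by
    rw [hP]; exact ⟨fun x hx => hD.1 hx, fun x hx k hk => hD.2 x hx k hk⟩
  obtain ⟨n, hn, hne⟩ := h P _ hD' (H.subtype ⁻¹' A) ⟨g, hg⟩
    (fun a ha => by rw [hP]; exact hA ha)
    (by rintro _ ⟨a, ha, rfl⟩; rw [hP]; exact hgA ⟨a, ha, rfl⟩)
  refine ⟨n, ⟨n.2, ?_⟩, fun a ha => congrArg Subtype.val (hne ⟨a, hR.1 (hA ha)⟩ ha)⟩
  have h1 := Subgroup.le_normalizer_map H.subtype ⟨n, hn, rfl⟩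
  rw [hF.map H.subtype _ H.subtype_injective.injOn,
    Subgroup.subgroupOf_map_subtype, inf_eq_left.2 (hD.1.trans hR.1)] at h1
  exact h1

/-- Conjugations through a normal `p'`-subgroup are realised in a subgroup containing both ends. -/
theorem fusion_of_factor [Finite G] [Fact p.Prime] {S : Subgroup G} (hS : IsPGroup p S) {K N : Subgroup G}
    [K.Normal] (hK : (Nat.card K).Coprime p) (hSN : S ≤ N) {A : Set G} (hA : A ⊆ S) {m k : G} (hm : m ∈ N)
    (hk : k ∈ K) (hgA : (fun a => m * k * a * (m * k)⁻¹) '' A ⊆ S) :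
    ∃ n ∈ N, ∀ a ∈ A, n * a * n⁻¹ = m * k * a * (m * k)⁻¹ := by
  set P := Subgroup.closure A
  have hPS : P ≤ S := (Subgroup.closure_le _).2 hA
  have hPN : P ≤ N := hPS.trans hSN
  have hkN : ∀ z ∈ K ⊓ N, ∀ y ∈ N, y * z * y⁻¹ ∈ K ⊓ N := fun z hz y hy =>
    ⟨(inferInstance : K.Normal).conj_mem z hz.1 y, N.mul_mem (N.mul_mem hy hz.2) (N.inv_mem hy)⟩
  have hPn : P ≤ Subgroup.normalizer ((K ⊓ N : Subgroup G) : Set G) := fun y hy =>
    Coprime.mem_normalizer_of_forall fun z hz => hkN z hz y (hPN hy)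
  set M := P ⊔ (K ⊓ N) with hMdef
  have hMmul : ∀ z ∈ M, ∃ y ∈ P, ∃ o ∈ K ⊓ N, y * o = z := fun z hz => by
    have h : z ∈ ((P : Set G) * ((K ⊓ N : Subgroup G) : Set G)) := by
      rw [← Subgroup.coe_mul_of_left_le_normalizer_right _ _ hPn]; exact hz
    exact Set.mem_mul.1 h
  have hdis : ∀ z ∈ K, ∀ Q : Subgroup G, IsPGroup p Q → z ∈ Q → z = 1 := fun z hzK Q hQ hzQ => by
    obtain ⟨j, hj⟩ := IsPGroup.iff_card.1 hQ
    exact Coprime.eq_one_of_mem_of_mem
      (by rw [hj]; exact hK.symm.pow_left j) hzQ hzK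
  have hsyl : Fusion.IsSylowIn p P M := ⟨le_sup_left, hS.to_le hPS, fun Q hPQ hQM hQ => by
    refine le_antisymm (fun z hz => ?_) hPQ
    obtain ⟨y, hy, o, ho, rfl⟩ := hMmul z (hQM hz)
    have hoQ : o ∈ Q := (Q.mul_mem_cancel_left (hPQ hy)).1 hz
    rw [hdis o ho.1 Q hQ hoQ, mul_one]
    exact hy⟩
  have hb : ∀ a ∈ A, k * a * k⁻¹ ∈ M := fun a ha => by
    have h1 : m⁻¹ * (m * k * a * (m * k)⁻¹) * m ∈ N :=
      N.mul_mem (N.mul_mem (N.inv_mem hm) (hSN (hgA ⟨a, ha, rfl⟩))) hm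
    have h2 : k * a * k⁻¹ ∈ N := by convert h1 using 1; group
    have h3 : a⁻¹ * (k * a * k⁻¹) ∈ K ⊓ N := by
      refine ⟨?_, N.mul_mem (N.inv_mem (hSN (hA ha))) h2⟩
      have h := (inferInstance : K.Normal).conj_mem k hk a⁻¹
      rw [inv_inv] at h
      simpa [mul_assoc] using K.mul_mem h (K.inv_mem hk)
    rw [show k * a * k⁻¹ = a * (a⁻¹ * (k * a * k⁻¹)) by group]
    exact M.mul_mem (Subgroup.mem_sup_left (Subgroup.subset_closure ha)) (Subgroup.mem_sup_right h3)
  have hQM : P.map (MulAut.conj k).toMonoidHom ≤ M := by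
    rw [MonoidHom.map_closure, Subgroup.closure_le]
    rintro _ ⟨a, ha, rfl⟩
    exact hb a ha
  obtain ⟨z, hz, hzc⟩ := hsyl.exists_conj_le ((hS.to_le hPS).map _) hQM
  obtain ⟨y, hy, o, ho, rfl⟩ := hMmul z hz
  refine ⟨m * o⁻¹, N.mul_mem hm (N.inv_mem ho.2), fun a ha => ?_⟩
  have h1 := hzc _ ⟨a, Subgroup.subset_closure ha, rfl⟩
  have h2 : (o * k) * a * (o * k)⁻¹ ∈ P := by
    have h := P.mul_mem (P.mul_mem (P.inv_mem hy) h1) hy
    simpa [mul_assoc] using h
  have h3 : (o * k) * a * (o * k)⁻¹ * a⁻¹ = 1 := by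
    refine hdis _ ?_ P (hS.to_le hPS) (P.mul_mem h2 (P.inv_mem (Subgroup.subset_closure ha)))
    have hok : o * k ∈ K := K.mul_mem ho.1 hk
    have h := (inferInstance : K.Normal).conj_mem _ (K.inv_mem hok) a
    simpa [mul_assoc] using K.mul_mem hok h
  rw [mul_inv_eq_one] at h3
  calc m * o⁻¹ * a * (m * o⁻¹)⁻¹ = m * o⁻¹ * ((o * k) * a * (o * k)⁻¹) * (m * o⁻¹)⁻¹ := by rw [h3]
    _ = m * k * a * (m * k)⁻¹ := by group

theorem constrained_quotient_of_inf [Finite G] [hp' : Fact p.Prime] 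
    (S : Sylow p G) {T : Subgroup G} [hTn : T.Normal] (hT : IsPGroup p T)
    (hD : ∀ g ∈ (S : Subgroup G), (g : G ⧸ Subgroup.centralizer (T : Set G)) ∈
      Cfsg.pCore p (G ⧸ Subgroup.centralizer (T : Set G)) → g ∈ T) :
    Subgroup.centralizer (Cfsg.pCore p (G ⧸ Cfsg.pPrimeCore p G) : Set (G ⧸ Cfsg.pPrimeCore p G)) ≤
      Cfsg.pCore p (G ⧸ Cfsg.pPrimeCore p G) := by
  classical
  set C := Subgroup.centralizer (T : Set G) with hC
  haveI hCn : C.Normal := inferInstance
  set K := Cfsg.pPrimeCore p G with hK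
  let q := QuotientGroup.mk' K
  have hq : Function.Surjective q := QuotientGroup.mk'_surjective K
  have hker : (Nat.card q.ker).Coprime p := by rw [QuotientGroup.ker_mk']; exact Cores.coprime_card_pPrimeCore p
  have hTS : T ≤ (S : Subgroup G) := (Cores.le_pCore hTn hT).trans (Cores.pCore_le_sylow S)
  have hTK : Disjoint T K := by
    refine (disjoint_iff).2 ((Subgroup.eq_bot_iff_forall _).2 fun z hz => ?_)
    obtain ⟨n, hn⟩ := IsPGroup.iff_card.1 hT
    exact Coprime.eq_one_of_mem_of_mem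
      (by rw [hn]; exact (Cores.coprime_card_pPrimeCore p (G := G)).symm.pow_left n) hz.1 hz.2
  have hKC : K ≤ C := fun k hk => Subgroup.mem_centralizer_iff.2 fun z hz =>
    (Cores.pCore_pPrimeCore_commute (Cores.le_pCore hTn hT hz) hk).eq
  -- `C = (C ∩ T) K`
  have hCS : ∀ c ∈ C, c ∈ (S : Subgroup G) → c ∈ T := fun c hc hcS =>
    hD c hcS (by rw [(QuotientGroup.eq_one_iff c).2 hc]; exact one_mem _)
  have hCle : ∀ c ∈ C, ∃ t ∈ T, ∃ k ∈ K, c = t * k := by
    let P : Sylow p C := (S.isPGroup'.comap_subtype (K := C)).toSylow fun hd =>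
      S.not_dvd_index (hd.trans (Cores.relIndex_dvd_index_of_normal_right _ C))
    have hPmem : ∀ a : C, a ∈ (P : Subgroup C) ↔ (a : G) ∈ (S : Subgroup G) := fun a => Iff.rfl
    have hcen : Subgroup.normalizer ((P : Subgroup C) : Set C) ≤ Subgroup.centralizer ((P : Subgroup C) : Set C) := by
      intro a _
      refine Subgroup.mem_centralizer_iff.2 fun b hb => Subtype.ext ?_
      exact Subgroup.mem_centralizer_iff.1 a.2 _ (hCS _ b.2 ((hPmem b).1 hb))
    have hcompl := MonoidHom.ker_transferSylow_isComplement' P hcen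
    set K₀ := (MonoidHom.transferSylow P hcen).ker
    have hK₀ : (Nat.card K₀).Coprime p := by
      rw [← hcompl.index_eq_card]
      exact ((hp'.out).coprime_iff_not_dvd.2 P.not_dvd_index).symm
    have hK₀K : K₀.map C.subtype ≤ K := fun z hz =>
      (Cores.pPrimeCore_map_subtype C p).le.trans inf_le_left
        (Subgroup.map_mono (Cores.le_pPrimeCore inferInstance hK₀) hz)
    intro c hc
    obtain ⟨k, hk, s, hs, e⟩ := Subgroup.mem_sup_of_normal_left.1
      (hcompl.sup_eq_top.ge (Subgroup.mem_top (⟨c, hc⟩ : C)))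
    refine ⟨s, hCS _ s.2 ((hPmem s).1 hs), k, hK₀K ⟨k, hk, rfl⟩, ?_⟩
    have e' : (k : G) * (s : G) = c := congrArg Subtype.val e
    rw [← e']
    exact (Subgroup.mem_centralizer_iff.1 k.2 _ (hCS _ s.2 ((hPmem s).1 hs))).symm
  set T' := T.map q with hT'
  have hT'le : T' ≤ Cfsg.pCore p (G ⧸ K) := Cores.le_pCore (hTn.map q hq) (hT.map q)
  have hc : Subgroup.centralizer (Cfsg.pCore p (G ⧸ K) : Set (G ⧸ K)) ≤ Cfsg.pCore p (G ⧸ K) := by
    intro y hy
    have hy' : y ∈ C.map q := by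
      rw [hC, ← PLocal.centralizer_map_eq q hq hker hT]
      exact Subgroup.centralizer_le hT'le hy
    obtain ⟨c, hc, rfl⟩ := hy'
    obtain ⟨t, ht, k, hk, rfl⟩ := hCle c hc
    rw [map_mul, show q k = 1 from (QuotientGroup.eq_one_iff k).2 hk, mul_one]
    exact hT'le ⟨t, ht, rfl⟩
  exact hc

/-- **Glauberman**: `N(F(D))` controls strong fusion in a stable group, p odd. -/
theorem ctlD [Fact p.Prime] (hp : p ≠ 2) (hF : GoodFunctor p @F) :
    ∀ (G : Type u) [Group G] [Finite G], Cfsg.IsNormalizerPStable p G → CtlD p @F G := by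
  intro G _ _ hst
  induction hn : Nat.card G using Nat.strong_induction_on generalizing G with
  | _ n IH =>
  subst hn
  intro S D₀ hD₀ A g hA hgA
  classical
  have hsub : ∀ H : Subgroup G, H ≠ ⊤ → CtlD p @F ↥H := fun H hH =>
    IH _ (Set.ncard_lt_ncard (lt_top_iff_ne_top.2 hH : H < ⊤) (Set.toFinite _) |>.trans_eq (by simp))
      ↥H (S3836.result hst H) rfl
  rcases eq_or_ne D₀ ⊥ with hDb | hDne
  · refine ⟨g, ?_, fun a _ => rfl⟩
    rw [show F D₀ = ⊥ from le_bot_iff.1 ((hF.le D₀).trans hDb.le), Subgroup.normalizer_eq_top]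
    exact Subgroup.mem_top g
  have hStop : Fusion.IsSylowIn p (S : Subgroup G) ⊤ :=
    ⟨le_top, S.isPGroup', fun D h1 _ h3 => S.is_maximal' h3 h1⟩
  set W := F D₀
  -- control inside a subgroup containing `S`
  have hin : ∀ H : Subgroup G, H ≠ ⊤ → (S : Subgroup G) ≤ H → ∀ (B : Set G) (h : G), h ∈ H →
      B ⊆ (S : Subgroup G) → (fun a => h * a * h⁻¹) '' B ⊆ (S : Subgroup G) →
      ∃ m ∈ Subgroup.normalizer (W : Set G), ∀ a ∈ B, m * a * m⁻¹ = h * a * h⁻¹ := fun H hH hSH B h hh hB hhB =>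
    let ⟨m, hm, he⟩ := ctlD_subgroup hF (hsub H hH) (hStop.mono hSH le_top) hD₀ hh hB hhB
    ⟨m, hm.2, he⟩
  set T := Cfsg.pCore p G with hTdef
  haveI hTn : T.Normal := Cores.pCore_normal p G
  have hT : IsPGroup p T := Cores.isPGroup_pCore p G
  by_cases hT0 : T = ⊥
  · classical
    -- the functor `Q ↦ F (D^G ∩ Q)`
    set cl : Subgroup G → Subgroup G := fun Q => ⨆ z : G, (D₀.map (MulAut.conj z).toMonoidHom ⊓ Q) with hcl
    set WF : Subgroup G → Subgroup G := fun Q => if cl Q = ⊥ then F Q else F (cl Q) with hWF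
    have hclle : ∀ Q, cl Q ≤ Q := fun Q => iSup_le fun z => inf_le_right
    have hclS : ∀ Q, Q ≤ (S : Subgroup G) → cl Q = D₀ ⊓ Q := fun Q hQ => by
      refine le_antisymm (iSup_le fun z => ?_) (le_iSup_of_le (1 : G) (le_of_eq ?_))
      · rintro _ ⟨⟨x, hx, rfl⟩, hzQ⟩
        exact ⟨hD₀.2 x hx z (hQ hzQ), hzQ⟩
      · rw [map_one]
        congr 1
        exact (Subgroup.map_id D₀).symm
    have hclcj : ∀ (z : G) (Q : Subgroup G),
        cl (Q.map (MulAut.conj z).toMonoidHom) = (cl Q).map (MulAut.conj z).toMonoidHom := fun z Q => by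
      have e : ∀ a b : G, (MulAut.conj (a * b)).toMonoidHom
          = (MulAut.conj a).toMonoidHom.comp (MulAut.conj b).toMonoidHom := fun a b => by ext; simp [mul_assoc]
      rw [hcl]
      simp only [Subgroup.map_iSup]
      refine (Equiv.mulLeft z).symm.iSup_congr fun y => ?_
      show ((D₀.map (MulAut.conj (z⁻¹ * y)).toMonoidHom) ⊓ Q).map _ = _
      rw [Subgroup.map_inf _ _ _ (MulAut.conj z).injective, Subgroup.map_map, ← e, mul_inv_cancel_left]
    have hW : Cfsg.IsConjugacyFunctor p WF := fun P hP => by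
      refine ⟨?_, fun hne => ?_, fun z => ?_⟩
      · simp only [hWF]
        split_ifs
        · exact hF.le P
        · exact (hF.le _).trans (hclle P)
      · simp only [hWF]
        split_ifs with h
        · exact hF.ne_bot P hP hne
        · exact hF.ne_bot _ (hP.to_le (hclle P)) h
      · have hinj : Function.Injective (MulAut.conj z).toMonoidHom := (MulAut.conj z).injective
        simp only [hWF, hclcj, Subgroup.map_eq_bot_iff_of_injective _ hinj]
        split_ifs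
        · exact (hF.map _ _ hinj.injOn).symm
        · exact (hF.map _ _ hinj.injOn).symm
    have hWS : WF (S : Subgroup G) = W := by
      simp only [hWF, hclS _ le_rfl, inf_eq_left.2 hD₀.1, if_neg hDne]
      rfl
    have hloc : ∀ U : Subgroup G, U ≤ (S : Subgroup G) → U ≠ ⊥ → AlperinFamily.FN p (S : Subgroup G) U →
        Cfsg.FamilyControlsStrongFusionIn p {WF}
          (Subgroup.normalizer (U : Set G)) := by
      intro U hU hU1 hfn
      refine AlperinFamily.controlsStrongFusionIn_iff_family.1 ⟨_, inf_le_right, S.isPGroup'.to_inf_left, hfn,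
        fun B h hh hB hhB => ?_⟩
      set R := (S : Subgroup G) ⊓ Subgroup.normalizer (U : Set G)
      have hDR : D₀ ⊓ R ≠ ⊥ := by
        haveI : (D₀.subgroupOf (S : Subgroup G)).Normal :=
          (Subgroup.normal_subgroupOf_iff_le_normalizer hD₀.1).2 (PLocal.sylow_le_normalizer_of_closed hD₀)
        have hz := PGroup.inf_center_ne_bot S.isPGroup' (N := D₀.subgroupOf (S : Subgroup G)) fun h => hDne
          ((Subgroup.subgroupOf_eq_bot.1 h).eq_bot_of_le hD₀.1)
        obtain ⟨⟨z, hzD, hzc⟩, hz1⟩ := Subgroup.ne_bot_iff_exists_ne_one.1 hz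
        intro hb
        apply hz1
        have hzn : (z : G) ∈ Subgroup.normalizer (U : Set G) := Subgroup.centralizer_le_normalizer _
          (Subgroup.mem_centralizer_iff.2 fun x hx =>
            congrArg Subtype.val (Subgroup.mem_center_iff.1 hzc ⟨x, hU hx⟩))
        have hmem : (z : G) ∈ D₀ ⊓ R := ⟨hzD, z.2, hzn⟩
        rw [hb, Subgroup.mem_bot] at hmem
        exact Subtype.ext (Subtype.ext hmem)
      have hWR : WF R = F (D₀ ⊓ R) := by
        simp only [hWF, hclS R inf_le_left, if_neg hDR]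
      rw [hWR]
      refine ctlD_subgroup hF (hsub _ fun he => hU1 ?_) (AlperinFamily.isSylowIn_of_fn S.isPGroup' hfn)
        ⟨inf_le_right, fun x hx z hz => ⟨hD₀.2 x hx.1 z hz.1, hz⟩⟩ hh hB hhB
      exact le_bot_iff.1 (hT0 ▸ Cores.le_pCore (Subgroup.normalizer_eq_top_iff.1 he) (S.isPGroup'.to_le hU))
    obtain ⟨R, hR, hRp, hRd, hctl⟩ := AlperinFamily.controlsStrongFusionIn_iff_family.2
      (AlperinFamily.familyControlsStrongFusionIn_top S (by rintro _ rfl; exact hW) _ (fun _ h => h)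
        (AlperinFamily.fn_reps S) hloc)
    obtain ⟨d, -, hd⟩ := AlperinFamily.exists_conj_sylowish (H := ⊤) (R := (S : Subgroup G)) hR hRp hRd le_top
      S.isPGroup' (by rw [Subgroup.relIndex_top_right]; exact S.not_dvd_index)
    obtain ⟨m, hm, he⟩ := hctl ((fun a => d⁻¹ * a * d) '' A) (d⁻¹ * g * d) trivial
      (by rintro _ ⟨a, ha, rfl⟩; exact AlperinFamily.mem_cj.1 (hd.ge (hA ha)))
      (by
        rintro _ ⟨_, ⟨a, ha, rfl⟩, rfl⟩
        have := AlperinFamily.mem_cj.1 (hd.ge (hgA ⟨a, ha, rfl⟩))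
        simp only [SetLike.mem_coe]
        convert this using 1
        group)
    refine ⟨d * m * d⁻¹, ?_, fun a ha => ?_⟩
    · have h1 := AlperinFamily.conj_mem_cj d hm.2
      rw [AlperinFamily.cj_normalizer, ← AlperinFamily.functor_cj hW hRp, hd, hWS] at h1
      exact h1
    · have h1 := congrArg (fun z => d * z * d⁻¹) (he _ ⟨a, ha, rfl⟩)
      convert h1 using 1 <;> group
  set C := Subgroup.centralizer (T : Set G) with hC
  haveI hCn : C.Normal := inferInstance
  haveI hpn : (Cfsg.pCore p (G ⧸ C)).Normal := Cores.pCore_normal p _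
  set D := (Cfsg.pCore p (G ⧸ C)).comap (QuotientGroup.mk' C) with hDdef
  have hTS : T ≤ (S : Subgroup G) := Cores.pCore_le_sylow S
  by_cases hcase : (S : Subgroup G) ⊓ D ≤ T
  · set K := Cfsg.pPrimeCore p G with hKdef
    have hKc : (Nat.card K).Coprime p := Cores.coprime_card_pPrimeCore p
    set q := QuotientGroup.mk' K with hqdef
    have hq : Function.Surjective q := QuotientGroup.mk'_surjective K
    have hker : (Nat.card q.ker).Coprime p := by rw [hqdef, QuotientGroup.ker_mk']; exact hKc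
    have hc := constrained_quotient_of_inf S hT (fun z hz hzD => hcase ⟨hz, hzD⟩)
    have hn := hF.normal (S.mapSurjective hq) (D₀.map q) (S1250.result S D₀ hD₀ K) hc
      (fun P _ hP => PLocal.isPStableOn_quotient_pPrime q hq hker hst P hP)
    rw [← hF.map q _ (PLocal.injOn_of_pGroup q hker (S.isPGroup'.to_le hD₀.1))] at hn
    have heq := PLocal.normalizer_map_eq q hq hker (S.isPGroup'.to_le ((hF.le D₀).trans hD₀.1))
    rw [Subgroup.normalizer_eq_top_iff.2 hn] at heq
    obtain ⟨m, hm, he⟩ := heq.le (Subgroup.mem_top (q g))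
    have hk : m⁻¹ * g ∈ K := QuotientGroup.eq.1 he
    obtain ⟨n, hnN, hne⟩ := fusion_of_factor S.isPGroup' hKc (hF.le_normalizer hD₀) hA hm hk
      (by simpa using hgA)
    exact ⟨n, hnN, fun a ha => by simpa using hne a ha⟩
  set Y := (S : Subgroup G) ⊓ D with hY
  by_cases hCS : C ⊔ (S : Subgroup G) = ⊤
  · have hST : ¬ (S : Subgroup G) ≤ T := fun h => hcase (inf_le_left.trans h)
    have hpc : ∀ k : G, (orderOf k).Coprime p → ∀ z ∈ T, Commute k z := fun k hk z hz =>
      (Subgroup.mem_centralizer_iff.1 (mem_centralizer_of_sup_eq_top S.isPGroup' hCS hk) z hz).symm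
    have hbar : Ctl p (G ⧸ T) := ctl hp (G ⧸ T) (isNormalizerPStable_quotient hp hst T hT hpc)
    obtain ⟨M, hSM, hM, hctl⟩ := exists_proper_control S hT (fun N h1 h2 => Cores.le_pCore h1 h2) hST hpc hbar
    obtain ⟨x, hx, hxe⟩ := hctl A g hA hgA
    obtain ⟨m, hm, he⟩ := hin M hM hSM A x hx hA (by
      rintro _ ⟨a, ha, rfl⟩
      show x * a * x⁻¹ ∈ (S : Subgroup G)
      rw [hxe a ha]; exact hgA ⟨a, ha, rfl⟩)
    exact ⟨m, hm, fun a ha => (he a ha).trans (hxe a ha)⟩
  set M := Subgroup.normalizer (Y : Set G)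
  have hSM : (S : Subgroup G) ≤ M := fun s hs => Coprime.mem_normalizer_of_forall fun z hz =>
    ⟨(S : Subgroup G).mul_mem ((S : Subgroup G).mul_mem hs hz.1) ((S : Subgroup G).inv_mem hs),
      (inferInstance : D.Normal).conj_mem z hz.2 s⟩
  have hM : M ≠ ⊤ := fun he =>
    hcase (Cores.le_pCore (Subgroup.normalizer_eq_top_iff.1 he) S.isPGroup'.to_inf_left)
  have hYD : Fusion.IsSylowIn p Y D :=
    hStop.inf_normal le_top fun a _ z hz => (inferInstance : D.Normal).conj_mem z hz a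
  have hfr : ∀ z : G, ∃ x ∈ M, ∃ d ∈ D, z = x * d := fun z => by
    obtain ⟨d, hd, hdY⟩ := hYD.exists_conj_le (hYD.2.1.map (MulAut.conj z).toMonoidHom)
      (by rintro _ ⟨y, hy, rfl⟩; exact (inferInstance : D.Normal).conj_mem y hy.2 z)
    refine ⟨d * z, Coprime.mem_normalizer_of_forall fun y hy => ?_, z⁻¹ * d⁻¹ * z, ?_, by group⟩
    · have := hdY _ ⟨y, hy, rfl⟩
      simpa [mul_assoc] using this
    · simpa using (inferInstance : D.Normal).conj_mem _ (D.inv_mem hd) z⁻¹
  have hDC : ∀ d ∈ D, ∃ y ∈ Y, ∃ c ∈ C, d = y * c :=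
    le_inf_sup (fun d _ c hc => hCn.conj_mem c hc d)
      (fun c hc => by
        show (c : G ⧸ C) ∈ Cfsg.pCore p (G ⧸ C)
        rw [(QuotientGroup.eq_one_iff c).2 hc]; exact one_mem _)
      hYD (fun d hd => by
        obtain ⟨j, hj⟩ := Cores.isPGroup_pCore p _ ⟨(d : G ⧸ C), hd⟩
        have h1 := congrArg Subtype.val hj
        simp only [SubgroupClass.coe_pow, OneMemClass.coe_one, ← QuotientGroup.mk_pow] at h1
        exact ⟨j, (QuotientGroup.eq_one_iff _).1 h1⟩)
  obtain ⟨x₀, hx₀, d, hd, rfl⟩ := hfr g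
  obtain ⟨y, hy, c, hc, rfl⟩ := hDC d hd
  set x := x₀ * y
  have hx : x ∈ M := M.mul_mem hx₀ (hSM hy.1)
  set H := C ⊔ (S : Subgroup G)
  have hcH : c ∈ H := Subgroup.mem_sup_left hc
  set R' := (((S : Subgroup G).map (MulAut.conj x⁻¹).toMonoidHom) ⊓ H : Subgroup G)
  have hR'p : IsPGroup p R' := (S.isPGroup'.map _).to_inf_left
  have hR'le : R' ≤ M ⊓ H := by
    refine le_inf (inf_le_left.trans ?_) inf_le_right
    rintro _ ⟨s, hs, rfl⟩
    exact M.mul_mem (M.mul_mem (M.inv_mem hx) (hSM hs)) (by simpa using hx)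
  obtain ⟨e, he, heS⟩ := (hStop.mono (le_inf hSM le_sup_right) le_top :
    Fusion.IsSylowIn p (S : Subgroup G) (M ⊓ H)).exists_conj_le hR'p hR'le
  have hmem : ∀ a ∈ A, c * a * c⁻¹ ∈ R' := fun a ha => by
    refine ⟨?_, H.mul_mem (H.mul_mem hcH (Subgroup.mem_sup_right (hA ha))) (H.inv_mem hcH)⟩
    refine ⟨_, hgA ⟨a, ha, rfl⟩, ?_⟩
    simp [x, mul_assoc]
  obtain ⟨m₁, hm₁, he₁⟩ := hin H hCS le_sup_right A (e * c) (H.mul_mem he.2 hcH) hA (by
    rintro _ ⟨a, ha, rfl⟩
    have := heS _ (hmem a ha)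
    simp only [SetLike.mem_coe] at this ⊢
    convert this using 1
    group)
  obtain ⟨m₂, hm₂, he₂⟩ := hin M hM hSM ((fun a => e * c * a * (e * c)⁻¹) '' A) (x * e⁻¹)
    (M.mul_mem hx (M.inv_mem he.1))
    (by
      rintro _ ⟨a, ha, rfl⟩
      have := heS _ (hmem a ha)
      simp only [SetLike.mem_coe] at this ⊢
      convert this using 1
      group)
    (by
      rintro _ ⟨_, ⟨a, ha, rfl⟩, rfl⟩
      have := hgA ⟨a, ha, rfl⟩
      simpa [x, mul_assoc] using this)
  refine ⟨m₂ * m₁, Subgroup.mul_mem _ hm₂ hm₁, fun a ha => ?_⟩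
  calc m₂ * m₁ * a * (m₂ * m₁)⁻¹ = m₂ * (m₁ * a * m₁⁻¹) * m₂⁻¹ := by group
    _ = m₂ * (e * c * a * (e * c)⁻¹) * m₂⁻¹ := by rw [he₁ a ha]
    _ = x * e⁻¹ * (e * c * a * (e * c)⁻¹) * (x * e⁻¹)⁻¹ := he₂ _ ⟨a, ha, rfl⟩
    _ = _ := by simp only [x]; group

theorem goodFunctor_centerThompsonAOf [Fact p.Prime] (hp : p ≠ 2) :
    GoodFunctor.{u} p fun {X} [Group X] K => Cfsg.centerThompsonAOf K where
  map f _ hf := PLocal.map_centerThompsonAOf f hf
  le K := inf_le_left.trans (PLocal.thompsonSubgroupAOf_le K)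
  ne_bot K hK hne e := by
    obtain ⟨z, hz, hz1, -⟩ := PLocal.exists_central_of_order_p hK hne
    exact hz1 (Subgroup.mem_bot.1 (e.le (PLocal.central_le_centerThompsonAOf hz)))
  normal S _ hD hc hst := PLocal.centerThompsonAOf_normal_closed hp hc hst S hD

theorem goodFunctor_omegaCenterThompson [Fact p.Prime] (hp : p ≠ 2) :
    GoodFunctor.{u} p fun {X} [Group X] K => Cfsg.omegaOne p (Cfsg.centerThompsonOf p K) where
  map f K hf := by
    rw [← PLocal.map_centerThompsonOf f hf]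
    exact PLocal.map_omegaOne f (hf.mono (SetLike.coe_subset_coe.2 (inf_le_left.trans (PLocal.thompsonSubgroupOf_le K))))
  le K := (PLocal.omegaOne_le _).trans (inf_le_left.trans (PLocal.thompsonSubgroupOf_le K))
  ne_bot K hK hne e := by
    obtain ⟨z, hz, hz1, hzp⟩ := PLocal.exists_central_of_order_p hK hne
    exact hz1 (Subgroup.mem_bot.1 (e.le (PLocal.mem_omegaOne (PLocal.central_le_centerThompsonOf hz hzp) hzp)))
  normal S _ hD hc hst := PLocal.omegaCenterThompson_normal_closed hp hc hst S hD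

theorem ctlD_centerThompsonAOf [Fact p.Prime] (hp : p ≠ 2) (G : Type u) [Group G] [Finite G]
    (hst : Cfsg.IsNormalizerPStable p G) : CtlD p (fun {X} [Group X] K => Cfsg.centerThompsonAOf K) G :=
  ctlD hp (goodFunctor_centerThompsonAOf hp) G hst

theorem ctlD_omegaCenterThompson [Fact p.Prime] (hp : p ≠ 2) (G : Type u) [Group G] [Finite G]
    (hst : Cfsg.IsNormalizerPStable p G) :
    CtlD p (fun {X} [Group X] K => Cfsg.omegaOne p (Cfsg.centerThompsonOf p K)) G :=
  ctlD hp (goodFunctor_omegaCenterThompson hp) G hst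

end Cfsg.Agent.PStab
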